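import Groth.Agent.H14Fib.Equiv

/-!
# Fibrewise criteria for functors between fibred categories
-/

set_option autoImplicit false
set_option backward.isDefEq.respectTransparency false
set_option backward.isDefEq.respectTransparency.types false

universe v₃ u₃ v₂ u₂ v u

open CategoryTheory CategoryTheory.Functor

namespace Groth.Agent.H14Fib

variable {C : Type u} [Category.{v} C] {𝒳 : BasedCategory.{v₂, u₂} C}
  {𝒴 : BasedCategory.{v₃, u₃} C} (G : 𝒳 ⥤ᵇ 𝒴)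

/-- `G` is injective on morphisms lying over identities. -/
def VertFaithful : Prop :=
  ∀ ⦃U : C⦄ ⦃a b : 𝒳.obj⦄ (φ ψ : a ⟶ b), 𝒳.p.IsHomLift (𝟙 U) φ → 𝒳.p.IsHomLift (𝟙 U) ψ →
    G.map φ = G.map ψ → φ = ψ

/-- `G` is surjective on morphisms lying over identities. -/
def VertFull : Prop :=
  ∀ ⦃U : C⦄ ⦃a b : 𝒳.obj⦄, 𝒳.p.obj a = U → 𝒳.p.obj b = U → ∀ ψ : G.obj a ⟶ G.obj b,
    𝒴.p.IsHomLift (𝟙 U) ψ → ∃ φ : a ⟶ b, 𝒳.p.IsHomLift (𝟙 U) φ ∧ G.map φ = ψ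

/-- `G` maps strongly cartesian morphisms over their image to such. -/
def MapSC : Prop :=
  ∀ ⦃a b : 𝒳.obj⦄ (φ : a ⟶ b), 𝒳.p.IsStronglyCartesian (𝒳.p.map φ) φ →
    𝒴.p.IsStronglyCartesian (𝒳.p.map φ) (G.map φ)

lemma MapSC.of_fibGrpd (h : FibCat.IsFibGrpd 𝒴.p) : MapSC G := fun _ _ φ _ => by
  have : 𝒳.p.IsHomLift (𝒳.p.map φ) φ := IsHomLift.map _ φ
  exact sc_of_fibGrpd h _ (G.map φ)

lemma MapSC.sc {G : 𝒳 ⥤ᵇ 𝒴} (hG : MapSC G) {R S : C} (f : R ⟶ S) {a b : 𝒳.obj} (φ : a ⟶ b)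
    [𝒳.p.IsStronglyCartesian f φ] : 𝒴.p.IsStronglyCartesian f (G.map φ) := by
  have := hG φ (sc_self f φ)
  subst_hom_lift 𝒳.p f φ
  exact this

lemma mapSC_iff : MapSC G ↔ ∀ ⦃R S : C⦄ (f : R ⟶ S) ⦃a b : 𝒳.obj⦄ (φ : a ⟶ b),
    𝒳.p.IsStronglyCartesian f φ → 𝒴.p.IsStronglyCartesian f (G.map φ) :=
  ⟨fun h _ _ f _ _ φ _ => h.sc f φ, fun h _ _ φ hφ => h _ φ hφ⟩

variable {G}

lemma faithful_of_vertFaithful [𝒳.p.IsFibered] (hG : MapSC G) (hv : VertFaithful G) :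
    G.toFunctor.Faithful := by
  refine ⟨fun {a b} α β h => ?_⟩
  have hβ : 𝒳.p.IsHomLift (𝒳.p.map α) β := by
    rw [← BasedFunctor.isHomLift_iff G, ← h]; infer_instance
  obtain ⟨z, χ, hχ⟩ := isFibered_exists_sc 𝒳.p (a := b) rfl (𝒳.p.map α)
  have := hG.sc (𝒳.p.map α) χ
  let τ := IsCartesian.map 𝒳.p (𝒳.p.map α) χ α
  let σ := IsCartesian.map 𝒳.p (𝒳.p.map α) χ β
  suffices τ = σ by
    rw [← IsCartesian.fac 𝒳.p (𝒳.p.map α) χ α, ← IsCartesian.fac 𝒳.p (𝒳.p.map α) χ β]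
    exact congrArg (· ≫ χ) this
  refine hv τ σ (inferInstance : 𝒳.p.IsHomLift (𝟙 (𝒳.p.obj a)) τ) inferInstance ?_
  apply IsCartesian.ext 𝒴.p (𝒳.p.map α) (G.map χ)
  simp only [← Functor.map_comp, τ, σ, IsCartesian.fac, h]

lemma full_of_vertFull [𝒳.p.IsFibered] (hG : MapSC G) (hv : VertFull G) :
    G.toFunctor.Full := by
  refine ⟨fun {a b} ψ => ?_⟩
  let g : 𝒳.p.obj a ⟶ 𝒳.p.obj b :=
    eqToHom (G.w_obj a).symm ≫ 𝒴.p.map ψ ≫ eqToHom (G.w_obj b)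
  have hψ : 𝒴.p.IsHomLift g ψ :=
    IsHomLift.of_fac' 𝒴.p g ψ (G.w_obj a) (G.w_obj b) (by simp [g])
  obtain ⟨z, χ, hχ⟩ := isFibered_exists_sc 𝒳.p (a := b) rfl g
  have := hG.sc g χ
  obtain ⟨φ, hφ, hφ'⟩ := hv rfl (IsHomLift.domain_eq 𝒳.p g χ)
    (IsCartesian.map 𝒴.p g (G.map χ) ψ) inferInstance
  exact ⟨φ ≫ χ, by rw [Functor.map_comp, hφ', IsCartesian.fac]⟩

section Family

variable {GU : ∀ U : C, 𝒳.p.Fiber U ⥤ 𝒴.p.Fiber U}
  (hGU : ∀ U : C, GU U ⋙ Fiber.fiberInclusion = Fiber.fiberInclusion ⋙ G.toFunctor)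
include hGU

lemma fam_obj {U : C} (a : 𝒳.p.Fiber U) : ((GU U).obj a).1 = G.obj a.1 :=
  Functor.congr_obj (hGU U) a

lemma fam_map {U : C} {a b : 𝒳.p.Fiber U} (φ : a ⟶ b) :
    ((GU U).map φ).1 = eqToHom (fam_obj hGU a) ≫ G.map φ.1 ≫ eqToHom (fam_obj hGU b).symm :=
  Functor.congr_hom (hGU U) φ

lemma vertFaithful_iff : VertFaithful G ↔ ∀ U : C, (GU U).Faithful := by
  constructor
  · intro h U
    refine ⟨fun {a b} φ ψ e => Subtype.ext (h φ.1 ψ.1 φ.2 ψ.2 ?_)⟩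
    have := congrArg Subtype.val e
    rw [fam_map hGU, fam_map hGU] at this
    exact (cancel_mono _).1 ((cancel_epi _).1 this)
  · intro h U a b φ ψ hφ hψ e
    have ha := IsHomLift.domain_eq 𝒳.p (𝟙 U) φ
    have hb := IsHomLift.codomain_eq 𝒳.p (𝟙 U) φ
    have := (h U).map_injective (X := Fiber.mk ha) (Y := Fiber.mk hb)
      (a₁ := ⟨φ, hφ⟩) (a₂ := ⟨ψ, hψ⟩) (Subtype.ext ?_)
    · exact congrArg Subtype.val this
    · rw [fam_map hGU, fam_map hGU, e]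

lemma vertFull_iff : VertFull G ↔ ∀ U : C, (GU U).Full := by
  constructor
  · intro h U
    refine ⟨fun {a b} ψ => ?_⟩
    have := ψ.2
    obtain ⟨φ, hφ, hφ'⟩ := h a.2 b.2
      (eqToHom (fam_obj hGU a).symm ≫ ψ.1 ≫ eqToHom (fam_obj hGU b)) inferInstance
    refine ⟨⟨φ, hφ⟩, Subtype.ext ?_⟩
    rw [fam_map hGU, hφ']
    simp
  · intro h U a b ha hb ψ hψ
    have hl : 𝒴.p.IsHomLift (𝟙 U)
        (eqToHom (fam_obj hGU (Fiber.mk ha)) ≫ ψ ≫ eqToHom (fam_obj hGU (Fiber.mk hb)).symm) :=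
      inferInstance
    obtain ⟨φ, hφ⟩ := (h U).map_surjective (X := Fiber.mk ha) (Y := Fiber.mk hb) ⟨_, hl⟩
    refine ⟨φ.1, φ.2, ?_⟩
    have := congrArg Subtype.val hφ
    rw [fam_map hGU] at this
    exact (cancel_mono _).1 ((cancel_epi _).1 this)

lemma essSurjOver_iff : EssSurjOver G ↔ ∀ U : C, (GU U).EssSurj := by
  constructor
  · intro h U
    refine ⟨fun η => ?_⟩
    obtain ⟨ξ, e, he⟩ := h η.1
    rw [η.2] at he
    have hξ : 𝒳.p.obj ξ = U := (G.w_obj ξ).symm.trans (IsHomLift.domain_eq 𝒴.p (𝟙 U) e.hom)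
    refine ⟨Fiber.mk hξ, ⟨fiberIso (eqToIso (fam_obj hGU (Fiber.mk hξ)) ≪≫ e) ?_⟩⟩
    change 𝒴.p.IsHomLift _ (eqToHom (fam_obj hGU (Fiber.mk hξ)) ≫ e.hom)
    infer_instance
  · intro h η
    obtain ⟨ξ, ⟨e⟩⟩ := (h (𝒴.p.obj η)).mem_essImage (Fiber.mk rfl : 𝒴.p.Fiber (𝒴.p.obj η))
    refine ⟨ξ.1, eqToIso (fam_obj hGU ξ).symm ≪≫ Fiber.fiberInclusion.mapIso e, ?_⟩
    have h2 : 𝒴.p.IsHomLift (𝟙 (𝒴.p.obj η)) (Fiber.fiberInclusion.map e.hom) := inferInstance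
    change 𝒴.p.IsHomLift _ (eqToHom (fam_obj hGU ξ).symm ≫ Fiber.fiberInclusion.map e.hom)
    infer_instance

lemma full_and_faithful_of_fam [𝒳.p.IsFibered] (hG : MapSC G) (hfull : ∀ U : C, (GU U).Full)
    (hfaith : ∀ U : C, (GU U).Faithful) : G.toFunctor.Full ∧ G.toFunctor.Faithful :=
  ⟨full_of_vertFull hG ((vertFull_iff hGU).2 hfull),
    faithful_of_vertFaithful hG ((vertFaithful_iff hGU).2 hfaith)⟩

lemma fam_faithful [G.toFunctor.Faithful] (U : C) : (GU U).Faithful :=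
  (vertFaithful_iff hGU).1 (fun _ _ _ _ _ _ _ h => G.toFunctor.map_injective h) U

lemma fam_full [G.toFunctor.Full] [G.toFunctor.Faithful] (U : C) : (GU U).Full :=
  (vertFull_iff hGU).1 (fun U a b _ _ ψ hψ => ⟨G.toFunctor.preimage ψ, by
    rw [← BasedFunctor.isHomLift_iff G, G.toFunctor.map_preimage]; exact hψ,
    G.toFunctor.map_preimage ψ⟩) U

lemma isEquivOver_iff_fam [𝒳.p.IsFibered] (hG : MapSC G) :
    FibCat.IsEquivOver G ↔ ∀ U : C, (GU U).IsEquivalence := by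
  rw [isEquivOver_iff]
  constructor
  · rintro ⟨⟨_, _⟩, h⟩ U
    have := fam_full hGU U
    have := fam_faithful hGU U
    have := (essSurjOver_iff hGU).1 h U
    exact {}
  · intro h
    exact ⟨full_and_faithful_of_fam hGU hG (fun U => (h U).full) (fun U => (h U).faithful),
      (essSurjOver_iff hGU).2 (fun U => (h U).essSurj)⟩

end Family

/-- Lifting isomorphisms of the base with prescribed source makes plain equivalences into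
equivalences over the base. -/
lemma isEquivOver_of_isEquivalence
    (h𝒳 : ∀ ⦃T S : C⦄ (α : T ≅ S) (ξ : 𝒳.obj), 𝒳.p.obj ξ = T →
      ∃ (ξ' : 𝒳.obj) (e : ξ ≅ ξ'), 𝒳.p.IsHomLift α.hom e.hom)
    (G : 𝒳 ⥤ᵇ 𝒴) [G.toFunctor.IsEquivalence] : FibCat.IsEquivOver G := by
  refine (isEquivOver_iff G).2 ⟨⟨inferInstance, inferInstance⟩, fun η => ?_⟩
  let e := G.toFunctor.objObjPreimageIso η
  let ξ := G.toFunctor.objPreimage η
  let α : 𝒳.p.obj ξ ≅ 𝒴.p.obj η := eqToIso (G.w_obj ξ).symm ≪≫ 𝒴.p.mapIso e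
  obtain ⟨ξ', d, hd⟩ := h𝒳 α ξ rfl
  refine ⟨ξ', (G.toFunctor.mapIso d).symm ≪≫ e, ?_⟩
  have hα : 𝒴.p.IsHomLift α.hom e.hom :=
    IsHomLift.of_fac 𝒴.p α.hom e.hom (G.w_obj ξ) rfl (by simp [α])
  have hd' : 𝒴.p.IsHomLift α.hom (G.toFunctor.mapIso d).hom :=
    BasedFunctor.preserves_isHomLift G α.hom d.hom
  have h2 := homLift_comp' (IsHomLift.inv_lift_inv 𝒴.p α (G.toFunctor.mapIso d)) hα
  rw [α.inv_hom_id] at h2
  exact h2

/-- Fibred categories lift isomorphisms of the base with prescribed source. -/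
lemma exists_iso_lift [𝒳.p.IsFibered] ⦃T S : C⦄ (α : T ≅ S) (ξ : 𝒳.obj) (hξ : 𝒳.p.obj ξ = T) :
    ∃ (ξ' : 𝒳.obj) (e : ξ ≅ ξ'), 𝒳.p.IsHomLift α.hom e.hom := by
  obtain ⟨ξ', φ, hφ⟩ := isFibered_exists_sc 𝒳.p hξ α.inv
  have := IsStronglyCartesian.isIso_of_base_isIso 𝒳.p α.inv φ
  refine ⟨ξ', (asIso φ).symm, ?_⟩
  have : 𝒳.p.IsHomLift α.symm.hom (asIso φ).hom := hφ.toIsHomLift
  exact IsHomLift.inv_lift_inv 𝒳.p α.symm (asIso φ)

end Groth.Agent.H14Fib
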