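import Groth.Agent.H14Fib.FiberFun

/-!
# The 2-Yoneda lemma for slice categories

Functors over `C` out of `FibCat.overCat U` into a fibred category are determined by their value at
`𝟙 U`.
-/

set_option autoImplicit false
set_option backward.isDefEq.respectTransparency false
set_option backward.isDefEq.respectTransparency.types false

universe v₃ u₃ v₂ u₂ v u

open CategoryTheory CategoryTheory.Functor

namespace Groth.Agent.H14Fib

variable {C : Type u} [Category.{v} C] {U : C} {𝒳 : BasedCategory.{v₂, u₂} C}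

/-- The top object of a slice. -/
abbrev topObj (U : C) : (FibCat.overCat U).obj := (Over.mk (𝟙 U) : Over U)

/-- The morphism to the top object of a slice. -/
def toTop (s : (FibCat.overCat U).obj) : s ⟶ topObj U :=
  (Over.homMk s.hom (Category.comp_id _) : (s : Over U) ⟶ Over.mk (𝟙 U))

lemma toTop_left (s : (FibCat.overCat U).obj) : (toTop s).left = s.hom := rfl

lemma toTop_comp {s t : (FibCat.overCat U).obj} (f : s ⟶ t) : f ≫ toTop t = toTop s :=
  Over.OverMorphism.ext (Over.w f)

lemma overCat_isHomLift {s t : (FibCat.overCat U).obj} (f : s ⟶ t) :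
    (FibCat.overCat U).p.IsHomLift f.left f :=
  IsHomLift.map (FibCat.overCat U).p f

instance toTop_isHomLift (s : (FibCat.overCat U).obj) :
    (FibCat.overCat U).p.IsHomLift s.hom (toTop s) :=
  overCat_isHomLift (toTop s)

/-- The functor sends the morphisms to the top object to strongly cartesian ones. -/
def TopSC (H : FibCat.overCat U ⥤ᵇ 𝒳) : Prop :=
  ∀ s : (FibCat.overCat U).obj, 𝒳.p.IsStronglyCartesian s.hom (H.map (toTop s))

lemma topSC_of_fibGrpd (h : FibCat.IsFibGrpd 𝒳.p) (H : FibCat.overCat U ⥤ᵇ 𝒳) : TopSC H :=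
  fun s => sc_of_fibGrpd h s.hom (H.map (toTop s))

lemma overCat_map_sc {s t : (FibCat.overCat U).obj} (f : s ⟶ t) :
    (FibCat.overCat U).p.IsStronglyCartesian f.left f := by
  have := overCat_isHomLift f
  refine ⟨fun {z} g ψ _ => ?_⟩
  have e : g ≫ f.left = ψ.left :=
    IsHomLift.eq_of_isHomLift (FibCat.overCat U).p (g ≫ f.left) ψ
  let χ : z ⟶ s := (Over.homMk g (by
    change g ≫ s.hom = z.hom
    rw [← Over.w f, ← Category.assoc, e, Over.w]) : (z : Over U) ⟶ s)
  refine ⟨χ, ⟨IsHomLift.map (FibCat.overCat U).p χ, Over.OverMorphism.ext e⟩, ?_⟩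
  rintro τ ⟨_, -⟩
  exact Over.OverMorphism.ext (IsHomLift.eq_of_isHomLift (FibCat.overCat U).p g τ).symm

lemma topSC_of_preserves (H : FibCat.overCat U ⥤ᵇ 𝒳)
    (hH : ∀ ⦃R S : C⦄ (f : R ⟶ S) ⦃a b : (FibCat.overCat U).obj⦄ (φ : a ⟶ b),
      (FibCat.overCat U).p.IsStronglyCartesian f φ → 𝒳.p.IsStronglyCartesian f (H.map φ)) :
    TopSC H :=
  fun s => hH s.hom (toTop s) (overCat_map_sc (toTop s))

lemma natTrans_ext {G H : FibCat.overCat U ⥤ᵇ 𝒳} (hH : TopSC H) {α β : G ⟶ H}
    (h : α.toNatTrans.app (topObj U) = β.toNatTrans.app (topObj U)) : α = β := by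
  refine BasedNatTrans.homCategory.ext _ _ ?_
  ext s
  have := hH s
  have h1 : 𝒳.p.IsHomLift (𝟙 s.left) (α.toNatTrans.app s) := BasedNatTrans.isHomLift α rfl
  have h2 : 𝒳.p.IsHomLift (𝟙 s.left) (β.toNatTrans.app s) := BasedNatTrans.isHomLift β rfl
  apply IsStronglyCartesian.ext 𝒳.p s.hom (H.map (toTop s)) (𝟙 s.left)
  rw [← α.toNatTrans.naturality (toTop s), ← β.toNatTrans.naturality (toTop s), h]

section Extend

variable {G H : FibCat.overCat U ⥤ᵇ 𝒳} (hH : TopSC H)
  (φ : G.obj (topObj U) ⟶ H.obj (topObj U)) [𝒳.p.IsHomLift (𝟙 U) φ]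

include hH in
lemma exists_component (s : (FibCat.overCat U).obj) :
    ∃ χ : G.obj s ⟶ H.obj s, 𝒳.p.IsHomLift (𝟙 s.left) χ ∧
      χ ≫ H.map (toTop s) = G.map (toTop s) ≫ φ := by
  have := hH s
  have h1 : 𝒳.p.IsHomLift (s.hom ≫ 𝟙 U) (G.map (toTop s) ≫ φ) :=
    homLift_comp' (BasedFunctor.preserves_isHomLift G s.hom (toTop s)) ‹_›
  obtain ⟨χ, hχ, -⟩ := IsStronglyCartesian.universal_property 𝒳.p s.hom (H.map (toTop s))
    (𝟙 s.left) (s.hom ≫ 𝟙 U) ((Category.comp_id _).trans (Category.id_comp _).symm)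
    (G.map (toTop s) ≫ φ)
  exact ⟨χ, hχ⟩

/-- A 2-morphism out of a slice from its value at the top object. -/
noncomputable def extendNatTrans : G ⟶ H where
  toNatTrans :=
    { app := fun s => (exists_component hH φ s).choose
      naturality := fun s t f => by
        have := hH t
        obtain ⟨h1, h2⟩ := (exists_component hH φ s).choose_spec
        obtain ⟨h3, h4⟩ := (exists_component hH φ t).choose_spec
        have := overCat_isHomLift f
        have e1 : 𝒳.p.IsHomLift f.left (G.map f ≫ (exists_component hH φ t).choose) :=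
          IsHomLift.comp_lift_id_right' 𝒳.p f.left (G.map f) t.left _
        have e2 : 𝒳.p.IsHomLift f.left ((exists_component hH φ s).choose ≫ H.map f) :=
          IsHomLift.comp_lift_id_left' 𝒳.p s.left _ f.left (H.map f)
        apply IsStronglyCartesian.ext 𝒳.p t.hom (H.map (toTop t)) f.left
        rw [Category.assoc, Category.assoc, h4, ← H.toFunctor.map_comp, toTop_comp, h2,
          ← Functor.map_comp_assoc, toTop_comp] }
  isHomLift' s := (exists_component hH φ s).choose_spec.1

lemma extendNatTrans_top : (extendNatTrans hH φ).toNatTrans.app (topObj U) = φ := by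
  have := hH (topObj U)
  obtain ⟨h1, h2⟩ := (exists_component hH φ (topObj U)).choose_spec
  have h3 : toTop (topObj U) = 𝟙 _ := Over.OverMorphism.ext rfl
  change (exists_component hH φ (topObj U)).choose = φ
  generalize (exists_component hH φ (topObj U)).choose = χ at h2 ⊢
  rw [h3, G.toFunctor.map_id, H.toFunctor.map_id, Category.comp_id, Category.id_comp] at h2
  exact h2

end Extend

/-- Two functors out of a slice agreeing at the top object up to a vertical isomorphism agree. -/
noncomputable def isoOfTop {G H : FibCat.overCat U ⥤ᵇ 𝒳} (hG : TopSC G) (hH : TopSC H)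
    (e : G.obj (topObj U) ≅ H.obj (topObj U)) (he : 𝒳.p.IsHomLift (𝟙 U) e.hom) : G ≅ H :=
  haveI : 𝒳.p.IsHomLift (𝟙 U) e.inv := IsHomLift.lift_id_inv 𝒳.p U e
  { hom := extendNatTrans hH e.hom
    inv := extendNatTrans hG e.inv
    hom_inv_id := natTrans_ext hG (by
      change (extendNatTrans hH e.hom).toNatTrans.app (topObj U) ≫
        (extendNatTrans hG e.inv).toNatTrans.app (topObj U) = 𝟙 _
      rw [extendNatTrans_top, extendNatTrans_top, e.hom_inv_id])
    inv_hom_id := natTrans_ext hH (by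
      change (extendNatTrans hG e.inv).toNatTrans.app (topObj U) ≫
        (extendNatTrans hH e.hom).toNatTrans.app (topObj U) = 𝟙 _
      rw [extendNatTrans_top, extendNatTrans_top, e.inv_hom_id]) }

section OfObj

variable [𝒳.p.IsFibered] {x : 𝒳.obj} (hx : 𝒳.p.obj x = U)

include hx in
lemma exists_pull (s : (FibCat.overCat U).obj) :
    ∃ b : Σ b : 𝒳.obj, (b ⟶ x), 𝒳.p.IsStronglyCartesian s.hom b.2 := by
  obtain ⟨b, φ, hφ⟩ := isFibered_exists_sc 𝒳.p hx s.hom
  exact ⟨⟨b, φ⟩, hφ⟩

/-- The chosen pullback of `x` along an object of the slice. -/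
noncomputable def pullObj (s : (FibCat.overCat U).obj) : 𝒳.obj :=
  (exists_pull hx s).choose.1

/-- The chosen strongly cartesian morphism to `x`. -/
noncomputable def pullMap (s : (FibCat.overCat U).obj) : pullObj hx s ⟶ x :=
  (exists_pull hx s).choose.2

instance pullMap_sc (s : (FibCat.overCat U).obj) :
    𝒳.p.IsStronglyCartesian s.hom (pullMap hx s) :=
  (exists_pull hx s).choose_spec

/-- The underlying functor of `fromOver`. -/
noncomputable def fromOverFun : (FibCat.overCat U).obj ⥤ 𝒳.obj where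
  obj s := pullObj hx s
  map {s t} f :=
    IsStronglyCartesian.map 𝒳.p t.hom (pullMap hx t) (g := f.left) (f' := s.hom) (Over.w f).symm
      (pullMap hx s)
  map_id s := by
    symm
    have : 𝒳.p.IsHomLift ((𝟙 s : s ⟶ s).left) (𝟙 (pullObj hx s)) :=
      IsHomLift.id (IsHomLift.domain_eq 𝒳.p s.hom (pullMap hx s))
    exact IsStronglyCartesian.map_uniq 𝒳.p _ _ _ _ _ (Category.id_comp _)
  map_comp {r s t} f g := by
    symm
    have : 𝒳.p.IsHomLift ((f ≫ g).left)
        (IsStronglyCartesian.map 𝒳.p s.hom (pullMap hx s) (g := f.left) (f' := r.hom) (Over.w f).symm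
            (pullMap hx r) ≫
          IsStronglyCartesian.map 𝒳.p t.hom (pullMap hx t) (g := g.left) (f' := s.hom) (Over.w g).symm
            (pullMap hx s)) := by
      change 𝒳.p.IsHomLift (f.left ≫ g.left) _
      infer_instance
    exact IsStronglyCartesian.map_uniq 𝒳.p _ _ _ _ _ (by
      rw [Category.assoc, IsStronglyCartesian.fac, IsStronglyCartesian.fac])

/-- A functor out of a slice with prescribed value. -/
noncomputable def fromOver : FibCat.overCat U ⥤ᵇ 𝒳 where
  toFunctor := fromOverFun hx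
  w := Functor.ext (fun s => IsHomLift.domain_eq 𝒳.p s.hom (pullMap hx s)) (fun s t f =>
    IsHomLift.fac' 𝒳.p f.left
      (IsStronglyCartesian.map 𝒳.p t.hom (pullMap hx t) (g := f.left) (f' := s.hom) (Over.w f).symm
        (pullMap hx s)))

lemma fromOver_map_pullMap {s t : (FibCat.overCat U).obj} (f : s ⟶ t) :
    (fromOver hx).map f ≫ pullMap hx t = pullMap hx s :=
  IsStronglyCartesian.fac 𝒳.p t.hom (pullMap hx t) (g := f.left) (Over.w f).symm (pullMap hx s)

lemma fromOver_map_sc {s t : (FibCat.overCat U).obj} (φ : s ⟶ t) :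
    𝒳.p.IsStronglyCartesian φ.left ((fromOver hx).map φ) := by
  have h1 : 𝒳.p.IsStronglyCartesian (φ.left ≫ t.hom) ((fromOver hx).map φ ≫ pullMap hx t) := by
    rw [fromOver_map_pullMap]
    exact sc_congr (Over.w φ).symm (pullMap hx s)
  have := overCat_isHomLift φ
  have : 𝒳.p.IsHomLift φ.left ((fromOver hx).map φ) :=
    BasedFunctor.preserves_isHomLift (fromOver hx) φ.left φ
  exact IsStronglyCartesian.of_comp 𝒳.p (g := t.hom) (ψ := pullMap hx t)

lemma fromOver_preserves ⦃R S : C⦄ (f : R ⟶ S) ⦃a b : (FibCat.overCat U).obj⦄ (φ : a ⟶ b)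
    (h : (FibCat.overCat U).p.IsStronglyCartesian f φ) :
    𝒳.p.IsStronglyCartesian f ((fromOver hx).map φ) := by
  have := fromOver_map_sc hx φ
  have := sc_self (p := 𝒳.p) φ.left ((fromOver hx).map φ)
  have := h.toIsHomLift
  exact sc_of_self (p := 𝒳.p) f _

lemma fromOver_topSC : TopSC (fromOver hx) := topSC_of_preserves _ (fromOver_preserves hx)

lemma fromOver_top_iso :
    ∃ e : (fromOver hx).obj (topObj U) ≅ x, 𝒳.p.IsHomLift (𝟙 U) e.hom := by
  have h : 𝒳.p.IsStronglyCartesian (𝟙 U) (pullMap hx (topObj U)) := pullMap_sc hx (topObj U)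
  have := IsStronglyCartesian.isIso_of_base_isIso 𝒳.p (𝟙 U) (pullMap hx (topObj U))
  exact ⟨asIso (pullMap hx (topObj U)), h.toIsHomLift⟩

end OfObj

/-- Every functor out of a slice into a category fibred in groupoids is the one built from its
value at the top object. -/
lemma iso_fromOver_of_fibGrpd (h : FibCat.IsFibGrpd 𝒳.p) [𝒳.p.IsFibered]
    (G : FibCat.overCat U ⥤ᵇ 𝒳) : Nonempty (G ≅ fromOver (G.w_obj (topObj U))) := by
  obtain ⟨e, he⟩ := fromOver_top_iso (G.w_obj (topObj U))
  exact ⟨isoOfTop (topSC_of_fibGrpd h G) (fromOver_topSC _) e.symm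
    (@IsHomLift.lift_id_inv _ _ _ _ 𝒳.p U _ _ e he)⟩

/-- Existence of a functor out of a slice with prescribed value, up to a vertical isomorphism. -/
lemma exists_fromOver [𝒳.p.IsFibered] {x : 𝒳.obj} (hx : 𝒳.p.obj x = U) :
    ∃ (G : FibCat.overCat U ⥤ᵇ 𝒳) (e : G.obj (topObj U) ≅ x),
      TopSC G ∧ 𝒳.p.IsHomLift (𝟙 U) e.hom :=
  let ⟨e, he⟩ := fromOver_top_iso hx
  ⟨fromOver hx, e, fromOver_topSC hx, he⟩

end Groth.Agent.H14Fib
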