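import Groth.Prelude.Def_FibCat2
import Mathlib.CategoryTheory.Groupoid

/-!
# Basic facts on categories fibred in groupoids

Lemmas about `FibCat.IsFibGrpd` and homomorphism lifts used throughout the fibred-category area.
-/

set_option autoImplicit false

universe v₁ u₁ v₂ u₂

open CategoryTheory CategoryTheory.Functor

namespace Groth.Agent.H14Fib

variable {C : Type u₁} [Category.{v₁} C] {𝒳 : Type u₂} [Category.{v₂} 𝒳] {p : 𝒳 ⥤ C}

/-- `φ` lies over `f` as soon as `f` is `p φ` up to transport. -/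
lemma homLift_congr {R S : C} {a b : 𝒳} {f f' : R ⟶ S} (h : f = f') (φ : a ⟶ b)
    [p.IsHomLift f φ] : p.IsHomLift f' φ := h ▸ inferInstance

lemma sc_congr {R S : C} {a b : 𝒳} {f f' : R ⟶ S} (h : f = f') (φ : a ⟶ b)
    [p.IsStronglyCartesian f φ] : p.IsStronglyCartesian f' φ := h ▸ inferInstance

/-- Explicit-argument composition of lifts of an identity. -/
lemma homLift_id_comp {S : C} {a b c : 𝒳} {φ : a ⟶ b} {ψ : b ⟶ c} (hφ : p.IsHomLift (𝟙 S) φ)
    (hψ : p.IsHomLift (𝟙 S) ψ) : p.IsHomLift (𝟙 S) (φ ≫ ψ) := inferInstance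

/-- Explicit-argument composition of a lift of `f` and a lift of `g`. -/
lemma homLift_comp' {R S T : C} {f : R ⟶ S} {g : S ⟶ T} {a b c : 𝒳} {φ : a ⟶ b} {ψ : b ⟶ c}
    (hφ : p.IsHomLift f φ) (hψ : p.IsHomLift g ψ) : p.IsHomLift (f ≫ g) (φ ≫ ψ) := inferInstance

lemma homLift_map_comp {a b c : 𝒳} (φ : a ⟶ b) (ψ : b ⟶ c) :
    p.IsHomLift (p.map φ ≫ p.map ψ) (φ ≫ ψ) :=
  p.map_comp φ ψ ▸ inferInstance

lemma sc_self {R S : C} {a b : 𝒳} (f : R ⟶ S) (φ : a ⟶ b) [p.IsStronglyCartesian f φ] :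
    p.IsStronglyCartesian (p.map φ) φ := by
  subst_hom_lift p f φ; infer_instance

lemma sc_of_self {R S : C} {a b : 𝒳} (f : R ⟶ S) (φ : a ⟶ b) [p.IsHomLift f φ]
    [p.IsStronglyCartesian (p.map φ) φ] : p.IsStronglyCartesian f φ := by
  subst_hom_lift p f φ; infer_instance

/-- In a category fibred in groupoids every morphism is strongly cartesian over whatever it lifts. -/
lemma sc_of_fibGrpd (hp : FibCat.IsFibGrpd p) {R S : C} {a b : 𝒳} (f : R ⟶ S) (φ : a ⟶ b)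
    [p.IsHomLift f φ] : p.IsStronglyCartesian f φ :=
  have := hp.isStronglyCartesian φ
  sc_of_self f φ

lemma isFibered_of_fibGrpd (hp : FibCat.IsFibGrpd p) : p.IsFibered :=
  IsFibered.of_exists_isStronglyCartesian fun a R f => by
    obtain ⟨y, φ, hφ⟩ := hp.exists_lift f
    exact ⟨y, φ, sc_of_fibGrpd hp f φ⟩

/-- Lift with a prescribed target lying over a prescribed object. -/
lemma exists_sc_lift (hp : FibCat.IsFibGrpd p) {R S : C} {a : 𝒳} (ha : p.obj a = S) (f : R ⟶ S) :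
    ∃ (b : 𝒳) (φ : b ⟶ a), p.IsStronglyCartesian f φ := by
  subst ha
  obtain ⟨y, φ, hφ⟩ := hp.exists_lift f
  exact ⟨y, φ, sc_of_fibGrpd hp f φ⟩

lemma isFibered_exists_sc (p : 𝒳 ⥤ C) [p.IsFibered] {R S : C} {a : 𝒳} (ha : p.obj a = S)
    (f : R ⟶ S) : ∃ (b : 𝒳) (φ : b ⟶ a), p.IsStronglyCartesian f φ := by
  obtain ⟨b, φ, hφ⟩ := IsPreFibered.exists_isCartesian p ha f
  exact ⟨b, φ, inferInstance⟩

lemma isIso_of_fibGrpd (hp : FibCat.IsFibGrpd p) {R S : C} {a b : 𝒳} (f : R ⟶ S) (φ : a ⟶ b)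
    [p.IsHomLift f φ] [IsIso f] : IsIso φ :=
  have := sc_of_fibGrpd hp f φ
  IsStronglyCartesian.isIso_of_base_isIso p f φ

lemma isIso_of_map_isIso (hp : FibCat.IsFibGrpd p) {a b : 𝒳} (φ : a ⟶ b) [IsIso (p.map φ)] :
    IsIso φ :=
  isIso_of_fibGrpd hp (p.map φ) φ

section Fiber

variable {S : C}

lemma fiber_isIso_of_isIso {a b : p.Fiber S} (φ : a ⟶ b) [IsIso φ.1] : IsIso φ := by
  have := φ.2
  refine ⟨⟨inv φ.1, IsHomLift.lift_id_inv_isIso p S φ.1⟩, ?_, ?_⟩
  · exact Subtype.ext (IsIso.hom_inv_id φ.1)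
  · exact Subtype.ext (IsIso.inv_hom_id φ.1)

instance fiberInclusion_isIso {a b : p.Fiber S} (φ : a ⟶ b) [IsIso φ] : IsIso φ.1 :=
  inferInstanceAs (IsIso (Fiber.fiberInclusion.map φ))

/-- Isomorphisms of a fibre from isomorphisms of the total category lying over an identity. -/
def fiberIso {a b : p.Fiber S} (e : a.1 ≅ b.1) (h : p.IsHomLift (𝟙 S) e.hom) : a ≅ b where
  hom := ⟨e.hom, h⟩
  inv := ⟨e.inv, IsHomLift.lift_id_inv p S e⟩
  hom_inv_id := Subtype.ext e.hom_inv_id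
  inv_hom_id := Subtype.ext e.inv_hom_id

lemma fiber_isGroupoid (hp : FibCat.IsFibGrpd p) (U : C) : IsGroupoid (p.Fiber U) where
  all_isIso φ := by
    have := φ.2
    have := isIso_of_fibGrpd hp (𝟙 U) φ.1
    exact fiber_isIso_of_isIso φ

end Fiber

/-- A fibred category with groupoid fibres is fibred in groupoids. -/
lemma fibGrpd_of_fiber [p.IsFibered] (h : ∀ U : C, IsGroupoid (p.Fiber U)) :
    FibCat.IsFibGrpd p where
  exists_lift {x V} f := by
    obtain ⟨y, φ, hφ⟩ := IsPreFibered.exists_isCartesian p (rfl : p.obj x = _) f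
    exact ⟨y, φ, inferInstance⟩
  isStronglyCartesian {y x} φ := by
    obtain ⟨z, ψ, hψ⟩ := IsPreFibered.exists_isCartesian p (rfl : p.obj x = _) (p.map φ)
    let τ := IsCartesian.map p (p.map φ) ψ φ
    have hz : p.obj z = p.obj y := IsHomLift.domain_eq p (p.map φ) ψ
    let τ' : Fiber.mk (rfl : p.obj y = p.obj y) ⟶ Fiber.mk hz := ⟨τ, inferInstanceAs (p.IsHomLift (𝟙 (p.obj y)) (IsCartesian.map p (p.map φ) ψ φ))⟩
    have := h (p.obj y)
    have : IsIso τ := fiberInclusion_isIso τ'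
    have : p.IsHomLift (𝟙 (p.obj y)) (asIso τ).hom := τ'.2
    have hc : p.IsCartesian (p.map φ) φ := by
      have := IsCartesian.of_iso_comp p (p.map φ) ψ (asIso τ)
      simpa [τ] using this
    infer_instance

end Groth.Agent.H14Fib
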