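import Groth.Agent.H14Fib.Basic

/-!
# Equivalences over the base

Characterisation of `FibCat.IsEquivOver` as fully faithful plus essentially surjective over
identities, and transport of (strongly) cartesian morphisms along such functors.
-/

set_option autoImplicit false
set_option backward.isDefEq.respectTransparency false
set_option backward.isDefEq.respectTransparency.types false

universe v₄ u₄ v₃ u₃ v₂ u₂ v u

open CategoryTheory CategoryTheory.Functor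

namespace Groth.Agent.H14Fib

variable {C : Type u} [Category.{v} C]
  {𝒳 : BasedCategory.{v₂, u₂} C} {𝒴 : BasedCategory.{v₃, u₃} C}
  {𝒵 : BasedCategory.{v₄, u₄} C}

/-- Every object of the target is isomorphic to an image by an isomorphism over an identity. -/
def EssSurjOver (F : 𝒳 ⥤ᵇ 𝒴) : Prop :=
  ∀ η : 𝒴.obj, ∃ (ξ : 𝒳.obj) (e : F.obj ξ ≅ η), 𝒴.p.IsHomLift (𝟙 (𝒴.p.obj η)) e.hom

lemma EssSurjOver.obj_eq {F : 𝒳 ⥤ᵇ 𝒴} {ξ : 𝒳.obj} {η : 𝒴.obj} (e : F.obj ξ ⟶ η)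
    [𝒴.p.IsHomLift (𝟙 (𝒴.p.obj η)) e] : 𝒳.p.obj ξ = 𝒴.p.obj η :=
  (F.w_obj ξ).symm.trans (IsHomLift.domain_eq 𝒴.p (𝟙 (𝒴.p.obj η)) e)

/-- A based natural isomorphism from an isomorphism of based functors, pointwise. -/
lemma isHomLift_isoApp {F G : 𝒳 ⥤ᵇ 𝒴} (e : F ≅ G) {a : 𝒳.obj} {S : C} (ha : 𝒳.p.obj a = S) :
    𝒴.p.IsHomLift (𝟙 S) ((BasedNatTrans.forgetful 𝒳 𝒴).mapIso e |>.app a).hom :=
  BasedNatTrans.isHomLift e.hom ha

lemma isEquivalence_of_isEquivOver {F : 𝒳 ⥤ᵇ 𝒴} (hF : FibCat.IsEquivOver F) :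
    F.toFunctor.IsEquivalence := by
  obtain ⟨G, ⟨e₁⟩, ⟨e₂⟩⟩ := hF
  exact (CategoryTheory.Equivalence.mk F.toFunctor G.toFunctor
    ((BasedNatTrans.forgetful _ _).mapIso e₁).symm
    ((BasedNatTrans.forgetful _ _).mapIso e₂)).isEquivalence_functor

lemma essSurjOver_of_isEquivOver {F : 𝒳 ⥤ᵇ 𝒴} (hF : FibCat.IsEquivOver F) : EssSurjOver F := by
  obtain ⟨G, -, ⟨e₂⟩⟩ := hF
  exact fun η => ⟨G.obj η, ((BasedNatTrans.forgetful _ _).mapIso e₂).app η,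
    BasedNatTrans.isHomLift e₂.hom rfl⟩

section Inverse

variable (F : 𝒳 ⥤ᵇ 𝒴) [F.toFunctor.Full] [F.toFunctor.Faithful] (h : EssSurjOver F)

/-- The chosen preimage object. -/
noncomputable def invObj (η : 𝒴.obj) : 𝒳.obj := (h η).choose

/-- The chosen isomorphism over an identity. -/
noncomputable def invIso (η : 𝒴.obj) : F.obj (invObj F h η) ≅ η := (h η).choose_spec.choose

instance invIso_isHomLift (η : 𝒴.obj) :
    𝒴.p.IsHomLift (𝟙 (𝒴.p.obj η)) (invIso F h η).hom := (h η).choose_spec.choose_spec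

/-- The inverse functor, on underlying categories. -/
noncomputable def invFun : 𝒴.obj ⥤ 𝒳.obj where
  obj := invObj F h
  map {η η'} ψ := F.toFunctor.preimage ((invIso F h η).hom ≫ ψ ≫ (invIso F h η').inv)
  map_id η := F.toFunctor.map_injective (by simp)
  map_comp f g := F.toFunctor.map_injective (by simp)

lemma invFun_map {η η' : 𝒴.obj} (ψ : η ⟶ η') :
    F.map ((invFun F h).map ψ) = (invIso F h η).hom ≫ ψ ≫ (invIso F h η').inv :=
  F.toFunctor.map_preimage _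

lemma invFun_isHomLift {η η' : 𝒴.obj} (ψ : η ⟶ η') :
    𝒳.p.IsHomLift (𝒴.p.map ψ) ((invFun F h).map ψ) := by
  have := IsHomLift.lift_id_inv 𝒴.p (𝒴.p.obj η') (invIso F h η')
  have key : 𝒴.p.IsHomLift (𝒴.p.map ψ)
      ((invIso F h η).hom ≫ ψ ≫ (invIso F h η').inv) := inferInstance
  rw [← BasedFunctor.isHomLift_iff F, invFun_map]
  exact key

/-- The inverse functor over the base. -/
noncomputable def invOver : 𝒴 ⥤ᵇ 𝒳 where
  toFunctor := invFun F h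
  w := Functor.ext (fun η => @EssSurjOver.obj_eq C _ 𝒳 𝒴 F (invObj F h η) η (invIso F h η).hom (invIso_isHomLift F h η))
    (fun η η' ψ => by
      have := invFun_isHomLift F h ψ
      exact IsHomLift.fac' 𝒳.p (𝒴.p.map ψ) ((invFun F h).map ψ))

include h in
lemma isEquivOver_of_inverse : FibCat.IsEquivOver F := by
  refine ⟨invOver F h, ⟨?_⟩, ⟨?_⟩⟩
  · refine BasedNatIso.mkNatIso
      (NatIso.ofComponents (fun ξ => F.toFunctor.preimageIso (invIso F h (F.obj ξ)))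
        (fun {a b} f => F.toFunctor.map_injective (by
          change F.map ((invFun F h).map (F.map f) ≫ _) = F.map (_ ≫ f)
          simp only [Functor.map_comp, invFun_map, Functor.preimageIso_hom, Functor.map_preimage,
            Category.assoc, Iso.inv_hom_id, Category.comp_id]))) (fun ξ => ?_)
    change 𝒳.p.IsHomLift _ (F.toFunctor.preimage (invIso F h (F.obj ξ)).hom)
    rw [← BasedFunctor.isHomLift_iff F, F.toFunctor.map_preimage, ← F.w_obj ξ]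
    infer_instance
  · refine BasedNatIso.mkNatIso
      (NatIso.ofComponents (fun η => invIso F h η)
        (fun {a b} f => by
          change F.map ((invFun F h).map f) ≫ _ = _ ≫ f
          simp only [invFun_map, Category.assoc, Iso.inv_hom_id, Category.comp_id])) (fun η => ?_)
    change 𝒴.p.IsHomLift _ (invIso F h η).hom
    infer_instance

end Inverse

lemma isEquivOver_iff (F : 𝒳 ⥤ᵇ 𝒴) :
    FibCat.IsEquivOver F ↔ (F.toFunctor.Full ∧ F.toFunctor.Faithful) ∧ EssSurjOver F :=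
  ⟨fun hF => have := isEquivalence_of_isEquivOver hF
      ⟨⟨inferInstance, inferInstance⟩, essSurjOver_of_isEquivOver hF⟩,
    fun ⟨⟨_, _⟩, h⟩ => isEquivOver_of_inverse F h⟩

lemma IsEquivOver.symm' {F : 𝒳 ⥤ᵇ 𝒴} (hF : FibCat.IsEquivOver F) :
    ∃ G : 𝒴 ⥤ᵇ 𝒳, FibCat.IsEquivOver G := by
  obtain ⟨G, h₁, h₂⟩ := hF
  exact ⟨G, F, h₂, h₁⟩

lemma isEquivOver_id (𝒳 : BasedCategory.{v₂, u₂} C) :
    FibCat.IsEquivOver (BasedFunctor.id 𝒳) :=
  ⟨BasedFunctor.id 𝒳, ⟨Iso.refl _⟩, ⟨Iso.refl _⟩⟩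

lemma isEquivOver_comp {F : 𝒳 ⥤ᵇ 𝒴} {G : 𝒴 ⥤ᵇ 𝒵} (hF : FibCat.IsEquivOver F)
    (hG : FibCat.IsEquivOver G) : FibCat.IsEquivOver (BasedFunctor.comp F G) := by
  obtain ⟨⟨_, _⟩, eF⟩ := (isEquivOver_iff F).1 hF
  obtain ⟨⟨_, _⟩, eG⟩ := (isEquivOver_iff G).1 hG
  refine (isEquivOver_iff _).2 ⟨⟨inferInstanceAs (F.toFunctor ⋙ G.toFunctor).Full,
    inferInstanceAs (F.toFunctor ⋙ G.toFunctor).Faithful⟩, fun ζ => ?_⟩
  obtain ⟨η, e, he⟩ := eG ζ
  obtain ⟨ξ, d, hd⟩ := eF η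
  refine ⟨ξ, G.toFunctor.mapIso d ≪≫ e, ?_⟩
  rw [EssSurjOver.obj_eq (F := G) e.hom] at hd
  change 𝒵.p.IsHomLift _ (G.map d.hom ≫ e.hom)
  infer_instance

/-- An isomorphism of functors over `C` does not affect being an equivalence over `C`. -/
lemma isEquivOver_of_iso {F G : 𝒳 ⥤ᵇ 𝒴} (e : F ≅ G) (hF : FibCat.IsEquivOver F) :
    FibCat.IsEquivOver G := by
  obtain ⟨⟨_, _⟩, eF⟩ := (isEquivOver_iff F).1 hF
  let e' := (BasedNatTrans.forgetful _ _).mapIso e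
  have e'' : F.toFunctor ≅ G.toFunctor := e'
  refine (isEquivOver_iff _).2 ⟨⟨Functor.Full.of_iso e'', Functor.Faithful.of_iso e''⟩, fun η => ?_⟩
  obtain ⟨ξ, d, hd⟩ := eF η
  refine ⟨ξ, (e'.app ξ).symm ≪≫ d, ?_⟩
  have h1 : 𝒴.p.IsHomLift (𝟙 (𝒴.p.obj η)) (e'.app ξ).inv :=
    BasedNatTrans.isHomLift e.inv (EssSurjOver.obj_eq d.hom)
  exact homLift_id_comp h1 hd

section Cartesian

variable (F : 𝒳 ⥤ᵇ 𝒴) {R S : C} (f : R ⟶ S) {a b : 𝒳.obj} (φ : a ⟶ b)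

lemma sc_of_map_sc [F.toFunctor.Full] [F.toFunctor.Faithful]
    [h : 𝒴.p.IsStronglyCartesian f (F.map φ)] : 𝒳.p.IsStronglyCartesian f φ := by
  have := BasedFunctor.isHomLift_map F f φ
  refine ⟨fun {a'} g φ' _ => ?_⟩
  obtain ⟨χ, ⟨hχ, hχ'⟩, huniq⟩ := IsStronglyCartesian.universal_property 𝒴.p f (F.map φ) g
    (g ≫ f) rfl (F.map φ')
  refine ⟨F.toFunctor.preimage χ, ⟨?_, F.toFunctor.map_injective (by simpa using hχ')⟩, ?_⟩
  · rw [← BasedFunctor.isHomLift_iff F, F.toFunctor.map_preimage]; exact hχ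
  · rintro ψ ⟨hψ, rfl⟩
    exact F.toFunctor.map_injective (by
      rw [F.toFunctor.map_preimage]; exact huniq _ ⟨inferInstance, by simp⟩)

lemma map_sc_of_sc [F.toFunctor.Full] [F.toFunctor.Faithful] (hF : EssSurjOver F)
    [𝒳.p.IsStronglyCartesian f φ] : 𝒴.p.IsStronglyCartesian f (F.map φ) := by
  refine ⟨fun {η} g φ' _ => ?_⟩
  obtain ⟨ξ, e, he⟩ := hF η
  have hξ : 𝒳.p.obj ξ = 𝒴.p.obj η := EssSurjOver.obj_eq e.hom
  have : 𝒳.p.IsHomLift (g ≫ f) (F.toFunctor.preimage (e.hom ≫ φ')) := by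
    rw [← BasedFunctor.isHomLift_iff F, F.toFunctor.map_preimage]; infer_instance
  obtain ⟨χ, ⟨hχ, hχ'⟩, huniq⟩ := IsStronglyCartesian.universal_property 𝒳.p f φ g
    (g ≫ f) rfl (F.toFunctor.preimage (e.hom ≫ φ'))
  have hinv := IsHomLift.lift_id_inv 𝒴.p (𝒴.p.obj η) e
  refine ⟨e.inv ≫ F.map χ, ⟨inferInstance, ?_⟩, ?_⟩
  · rw [Category.assoc, ← F.toFunctor.map_comp, hχ', F.toFunctor.map_preimage,
      Iso.inv_hom_id_assoc]
  · rintro ψ ⟨hψ, rfl⟩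
    rw [Iso.eq_inv_comp, ← huniq (F.toFunctor.preimage (e.hom ≫ ψ)) ⟨?_, ?_⟩,
      F.toFunctor.map_preimage]
    · rw [← BasedFunctor.isHomLift_iff F, F.toFunctor.map_preimage]; infer_instance
    · exact F.toFunctor.map_injective (by simp)

lemma map_cart_iff [F.toFunctor.Full] [F.toFunctor.Faithful] (hF : EssSurjOver F) :
    𝒴.p.IsCartesian f (F.map φ) ↔ 𝒳.p.IsCartesian f φ := by
  constructor
  · intro h
    have := BasedFunctor.isHomLift_map F f φ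
    refine ⟨fun {a'} φ' _ => ?_⟩
    obtain ⟨χ, ⟨hχ, hχ'⟩, huniq⟩ := IsCartesian.universal_property (p := 𝒴.p) (f := f)
      (φ := F.map φ) (F.map φ')
    refine ⟨F.toFunctor.preimage χ, ⟨?_, F.toFunctor.map_injective (by simpa using hχ')⟩, ?_⟩
    · rw [← BasedFunctor.isHomLift_iff F, F.toFunctor.map_preimage]; exact hχ
    · rintro ψ ⟨hψ, rfl⟩
      exact F.toFunctor.map_injective (by
        rw [F.toFunctor.map_preimage]; exact huniq _ ⟨inferInstance, by simp⟩)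
  · intro h
    refine ⟨fun {η} φ' _ => ?_⟩
    obtain ⟨ξ, e, he⟩ := hF η
    have hη : 𝒴.p.obj η = R := IsHomLift.domain_eq 𝒴.p f φ'
    rw [hη] at he
    have : 𝒳.p.IsHomLift f (F.toFunctor.preimage (e.hom ≫ φ')) := by
      rw [← BasedFunctor.isHomLift_iff F, F.toFunctor.map_preimage]; infer_instance
    obtain ⟨χ, ⟨hχ, hχ'⟩, huniq⟩ := IsCartesian.universal_property (p := 𝒳.p) (f := f)
      (φ := φ) (F.toFunctor.preimage (e.hom ≫ φ'))
    have hinv := IsHomLift.lift_id_inv 𝒴.p R e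
    refine ⟨e.inv ≫ F.map χ, ⟨inferInstance, ?_⟩, ?_⟩
    · rw [Category.assoc, ← F.toFunctor.map_comp, hχ', F.toFunctor.map_preimage,
        Iso.inv_hom_id_assoc]
    · rintro ψ ⟨hψ, rfl⟩
      rw [Iso.eq_inv_comp, ← huniq (F.toFunctor.preimage (e.hom ≫ ψ)) ⟨?_, ?_⟩,
        F.toFunctor.map_preimage]
      · rw [← BasedFunctor.isHomLift_iff F, F.toFunctor.map_preimage]; infer_instance
      · exact F.toFunctor.map_injective (by simp)

end Cartesian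

lemma isFibered_target_of_isEquivOver {F : 𝒳 ⥤ᵇ 𝒴} (hF : FibCat.IsEquivOver F)
    (h : 𝒳.p.IsFibered) : 𝒴.p.IsFibered := by
  obtain ⟨⟨_, _⟩, hs⟩ := (isEquivOver_iff F).1 hF
  refine IsFibered.of_exists_isStronglyCartesian fun η R f => ?_
  obtain ⟨ξ, e, he⟩ := hs η
  obtain ⟨b, φ, hφ⟩ := isFibered_exists_sc 𝒳.p (EssSurjOver.obj_eq e.hom) f
  have := map_sc_of_sc F f φ hs
  have := IsStronglyCartesian.comp (p := 𝒴.p) (f := f) (g := 𝟙 _) (φ := F.map φ) (ψ := e.hom)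
  exact ⟨F.obj b, F.map φ ≫ e.hom, sc_congr (Category.comp_id f) _⟩

lemma isFibered_source_of_isEquivOver {F : 𝒳 ⥤ᵇ 𝒴} (hF : FibCat.IsEquivOver F)
    (h : 𝒴.p.IsFibered) : 𝒳.p.IsFibered := by
  obtain ⟨G, hG⟩ := IsEquivOver.symm' hF
  exact isFibered_target_of_isEquivOver hG h

lemma fibGrpd_target_of_isEquivOver {F : 𝒳 ⥤ᵇ 𝒴} (hF : FibCat.IsEquivOver F)
    (h : FibCat.IsFibGrpd 𝒳.p) : FibCat.IsFibGrpd 𝒴.p := by
  have := isFibered_target_of_isEquivOver hF (isFibered_of_fibGrpd h)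
  obtain ⟨⟨_, _⟩, hs⟩ := (isEquivOver_iff F).1 hF
  refine fibGrpd_of_fiber fun U => ⟨fun {η η'} ψ => ?_⟩
  obtain ⟨ξ, e, he⟩ := hs η.1
  obtain ⟨ξ', e', he'⟩ := hs η'.1
  rw [η.2] at he
  rw [η'.2] at he'
  have hinv := IsHomLift.lift_id_inv 𝒴.p U e'
  have := ψ.2
  have hL : 𝒳.p.IsHomLift (𝟙 U) (F.toFunctor.preimage (e.hom ≫ ψ.1 ≫ e'.inv)) := by
    rw [← BasedFunctor.isHomLift_iff F, F.toFunctor.map_preimage]; infer_instance
  have := isIso_of_fibGrpd h (𝟙 U) (F.toFunctor.preimage (e.hom ≫ ψ.1 ≫ e'.inv))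
  have h2 : IsIso (e.hom ≫ ψ.1 ≫ e'.inv) :=
    F.toFunctor.map_preimage (e.hom ≫ ψ.1 ≫ e'.inv) ▸ inferInstance
  have : IsIso ψ.1 := by
    have : ψ.1 = e.inv ≫ (e.hom ≫ ψ.1 ≫ e'.inv) ≫ e'.hom := by simp
    rw [this]; infer_instance
  exact fiber_isIso_of_isIso ψ

lemma fibGrpd_source_of_isEquivOver {F : 𝒳 ⥤ᵇ 𝒴} (hF : FibCat.IsEquivOver F)
    (h : FibCat.IsFibGrpd 𝒴.p) : FibCat.IsFibGrpd 𝒳.p := by
  obtain ⟨G, hG⟩ := IsEquivOver.symm' hF
  exact fibGrpd_target_of_isEquivOver hG h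

end Groth.Agent.H14Fib
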