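import Groth.Agent.H14Fib.Equiv

/-!
# Fibre products over the base

(Strongly) cartesian morphisms of `FibCat.fp F G`, fibredness, and groupoid fibres.
-/

set_option autoImplicit false
set_option backward.isDefEq.respectTransparency false
set_option backward.isDefEq.respectTransparency.types false

universe v₄ u₄ v₃ u₃ v₂ u₂ v u

open CategoryTheory CategoryTheory.Functor CategoryTheory.Limits

namespace Groth.Agent.H14Fib

variable {C : Type u} [Category.{v} C]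

/-- Every morphism of the base over itself is strongly cartesian. -/
lemma selfOver_sc {R S : C} {a b : C} (f : R ⟶ S) (φ : a ⟶ b)
    [(FibCat.selfOver C).p.IsHomLift f φ] : (FibCat.selfOver C).p.IsStronglyCartesian f φ := by
  obtain rfl : a = R := IsHomLift.domain_eq (FibCat.selfOver C).p f φ
  obtain rfl : b = S := IsHomLift.codomain_eq (FibCat.selfOver C).p f φ
  obtain rfl : f = φ := IsHomLift.eq_of_isHomLift (FibCat.selfOver C).p f φ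
  refine ⟨fun {a'} g φ' _ => ⟨g, ⟨IsHomLift.map (FibCat.selfOver C).p g, ?_⟩, ?_⟩⟩
  · exact IsHomLift.eq_of_isHomLift (FibCat.selfOver C).p (g ≫ f) φ'
  · rintro χ ⟨_, -⟩
    exact (IsHomLift.eq_of_isHomLift (FibCat.selfOver C).p g χ).symm

lemma selfOver_fibGrpd : FibCat.IsFibGrpd (FibCat.selfOver C).p where
  exists_lift {x V} f := ⟨V, f, IsHomLift.map (FibCat.selfOver C).p f⟩
  isStronglyCartesian {a b} φ :=
    @selfOver_sc C _ _ _ a b _ φ (IsHomLift.map (FibCat.selfOver C).p φ)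

section

variable {𝒳 : BasedCategory.{v₂, u₂} C} {𝒴 : BasedCategory.{v₃, u₃} C}
  {𝒮 : BasedCategory.{v₄, u₄} C} {F : 𝒳 ⥤ᵇ 𝒮} {G : 𝒴 ⥤ᵇ 𝒮}

lemma fp_iso_isHomLift (x : (FibCat.fp F G).obj) {U : C} (hU : (FibCat.fp F G).p.obj x = U) :
    𝒮.p.IsHomLift (𝟙 U) x.obj.iso.hom := by
  subst hU; exact x.property

lemma fp_snd_obj (x : (FibCat.fp F G).obj) : 𝒴.p.obj x.obj.snd = (FibCat.fp F G).p.obj x :=
  (FibCat.fpSnd F G).w_obj x

/-- A morphism of the fibre product lies over `f` iff its first component does. -/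
lemma fp_isHomLift_iff {R S : C} {x y : (FibCat.fp F G).obj} (f : R ⟶ S) (φ : x ⟶ y) :
    (FibCat.fp F G).p.IsHomLift f φ ↔ 𝒳.p.IsHomLift f φ.hom.fst :=
  (BasedFunctor.isHomLift_iff (FibCat.fpFst F G) f φ).symm

lemma fp_isHomLift_fst {R S : C} {x y : (FibCat.fp F G).obj} (f : R ⟶ S) (φ : x ⟶ y)
    [(FibCat.fp F G).p.IsHomLift f φ] : 𝒳.p.IsHomLift f φ.hom.fst :=
  BasedFunctor.preserves_isHomLift (FibCat.fpFst F G) f φ

lemma fp_isHomLift_snd' {R S : C} {x y : (FibCat.fp F G).obj} (f : R ⟶ S) (φ : x ⟶ y)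
    [(FibCat.fp F G).p.IsHomLift f φ] : 𝒴.p.IsHomLift f φ.hom.snd :=
  BasedFunctor.preserves_isHomLift (FibCat.fpSnd F G) f φ

/-- Build a morphism of the fibre product. -/
def fpHom {x y : (FibCat.fp F G).obj} (a : x.obj.fst ⟶ y.obj.fst) (b : x.obj.snd ⟶ y.obj.snd)
    (h : F.map a ≫ y.obj.iso.hom = x.obj.iso.hom ≫ G.map b) : x ⟶ y :=
  ObjectProperty.homMk { fst := a, snd := b, w := h }

@[simp] lemma fpHom_fst {x y : (FibCat.fp F G).obj} (a : x.obj.fst ⟶ y.obj.fst)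
    (b : x.obj.snd ⟶ y.obj.snd) (h : F.map a ≫ y.obj.iso.hom = x.obj.iso.hom ≫ G.map b) :
    (fpHom a b h).hom.fst = a := rfl

@[simp] lemma fpHom_snd {x y : (FibCat.fp F G).obj} (a : x.obj.fst ⟶ y.obj.fst)
    (b : x.obj.snd ⟶ y.obj.snd) (h : F.map a ≫ y.obj.iso.hom = x.obj.iso.hom ≫ G.map b) :
    (fpHom a b h).hom.snd = b := rfl

lemma fp_hom_ext {x y : (FibCat.fp F G).obj} {φ ψ : x ⟶ y} (h₁ : φ.hom.fst = ψ.hom.fst)
    (h₂ : φ.hom.snd = ψ.hom.snd) : φ = ψ :=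
  ObjectProperty.hom_ext _ (CategoricalPullback.hom_ext h₁ h₂)

/-- Componentwise strongly cartesian morphisms are strongly cartesian in the fibre product. -/
lemma fp_sc {R S : C} {x y : (FibCat.fp F G).obj} (f : R ⟶ S) (φ : x ⟶ y)
    [(FibCat.fp F G).p.IsHomLift f φ]
    [𝒳.p.IsStronglyCartesian f φ.hom.fst] [𝒴.p.IsStronglyCartesian f φ.hom.snd]
    [𝒮.p.IsStronglyCartesian f (G.map φ.hom.snd)] :
    (FibCat.fp F G).p.IsStronglyCartesian f φ := by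
  refine ⟨fun {z} g ψ _ => ?_⟩
  have := fp_isHomLift_fst (g ≫ f) ψ
  have := fp_isHomLift_snd' (g ≫ f) ψ
  obtain ⟨a₁, ⟨ha₁, ha₂⟩, hau⟩ :=
    IsStronglyCartesian.universal_property 𝒳.p f φ.hom.fst g (g ≫ f) rfl ψ.hom.fst
  obtain ⟨b₁, ⟨hb₁, hb₂⟩, hbu⟩ :=
    IsStronglyCartesian.universal_property 𝒴.p f φ.hom.snd g (g ≫ f) rfl ψ.hom.snd
  have hx := fp_iso_isHomLift x (IsHomLift.domain_eq (FibCat.fp F G).p f φ)
  have hz := fp_iso_isHomLift z rfl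
  have hw : F.map a₁ ≫ x.obj.iso.hom = z.obj.iso.hom ≫ G.map b₁ := by
    have : 𝒮.p.IsHomLift g (F.map a₁ ≫ x.obj.iso.hom) := inferInstance
    have : 𝒮.p.IsHomLift g (z.obj.iso.hom ≫ G.map b₁) := inferInstance
    apply IsStronglyCartesian.ext 𝒮.p f (G.map φ.hom.snd) g
    simp only [Category.assoc]
    rw [← Functor.map_comp, hb₂, ← φ.hom.w, ← Functor.map_comp_assoc, ha₂]
    exact ψ.hom.w
  refine ⟨fpHom a₁ b₁ hw, ⟨(fp_isHomLift_iff g _).2 ha₁, fp_hom_ext ha₂ hb₂⟩, ?_⟩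
  rintro χ ⟨hχ, rfl⟩
  exact fp_hom_ext (hau _ ⟨fp_isHomLift_fst g χ, rfl⟩) (hbu _ ⟨fp_isHomLift_snd' g χ, rfl⟩)

/-- A lift in the fibre product from componentwise lifts. -/
lemma fp_exists_lift (y : (FibCat.fp F G).obj) {R S : C} (hy : (FibCat.fp F G).p.obj y = S)
    (f : R ⟶ S) {a' : 𝒳.obj} (a : a' ⟶ y.obj.fst) {b' : 𝒴.obj} (b : b' ⟶ y.obj.snd)
    [𝒳.p.IsHomLift f a] [𝒴.p.IsHomLift f b]
    [𝒮.p.IsStronglyCartesian f (F.map a)] [𝒮.p.IsStronglyCartesian f (G.map b)] :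
    ∃ (x : (FibCat.fp F G).obj) (φ : x ⟶ y) (hx : x.obj.fst = a') (hx' : x.obj.snd = b'),
      (FibCat.fp F G).p.IsHomLift f φ ∧ φ.hom.fst = eqToHom hx ≫ a ∧
        φ.hom.snd = eqToHom hx' ≫ b := by
  have hiso := fp_iso_isHomLift y hy
  have := IsStronglyCartesian.comp (p := 𝒮.p) (f := f) (g := 𝟙 S) (φ := F.map a)
    (ψ := y.obj.iso.hom)
  have := sc_congr (p := 𝒮.p) (Category.comp_id f) (F.map a ≫ y.obj.iso.hom)
  let e := IsCartesian.domainUniqueUpToIso 𝒮.p f (G.map b) (F.map a ≫ y.obj.iso.hom)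
  have he : 𝒮.p.IsHomLift (𝟙 R) e.hom := inferInstance
  have ha' : 𝒳.p.obj a' = R := IsHomLift.domain_eq 𝒳.p f a
  let x : (FibCat.fp F G).obj := ⟨{ fst := a', snd := b', iso := e }, by
    change 𝒮.p.IsHomLift (𝟙 (𝒳.p.obj a')) e.hom; rw [ha']; exact he⟩
  refine ⟨x, fpHom (x := x) a b ?_, rfl, rfl, (fp_isHomLift_iff f _).2 (show 𝒳.p.IsHomLift f a by infer_instance), ?_, ?_⟩
  · exact (IsCartesian.fac 𝒮.p f (G.map b) (F.map a ≫ y.obj.iso.hom)).symm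
  · simp [x]
  · simp [x]

lemma fp_fibered_of_preserves [𝒳.p.IsFibered] [𝒴.p.IsFibered]
    (hF : ∀ {R S : C} (f : R ⟶ S) {a b : 𝒳.obj} (φ : a ⟶ b),
      𝒳.p.IsStronglyCartesian f φ → 𝒮.p.IsStronglyCartesian f (F.map φ))
    (hG : ∀ {R S : C} (f : R ⟶ S) {a b : 𝒴.obj} (φ : a ⟶ b),
      𝒴.p.IsStronglyCartesian f φ → 𝒮.p.IsStronglyCartesian f (G.map φ)) :
    (FibCat.fp F G).p.IsFibered := by
  refine IsFibered.of_exists_isStronglyCartesian fun y R f => ?_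
  obtain ⟨a', a, ha⟩ := isFibered_exists_sc 𝒳.p (a := y.obj.fst) rfl f
  obtain ⟨b', b, hb⟩ := isFibered_exists_sc 𝒴.p (a := y.obj.snd) (fp_snd_obj y) f
  have := hF f a ha
  have := hG f b hb
  obtain ⟨x, φ, rfl, rfl, h₁, h₂, h₃⟩ := fp_exists_lift y rfl f a b
  rw [eqToHom_refl, Category.id_comp] at h₂ h₃
  subst h₂ h₃
  exact ⟨x, φ, fp_sc f φ⟩

lemma fp_fibGrpd (h𝒳 : FibCat.IsFibGrpd 𝒳.p) (h𝒴 : FibCat.IsFibGrpd 𝒴.p)
    (h𝒮 : FibCat.IsFibGrpd 𝒮.p) : FibCat.IsFibGrpd (FibCat.fp F G).p where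
  exists_lift {y V} f := by
    obtain ⟨a', a, ha⟩ := exists_sc_lift h𝒳 (a := y.obj.fst) rfl f
    obtain ⟨b', b, hb⟩ := exists_sc_lift h𝒴 (a := y.obj.snd) (fp_snd_obj y) f
    have := sc_of_fibGrpd h𝒮 f (F.map a)
    have := sc_of_fibGrpd h𝒮 f (G.map b)
    obtain ⟨x, φ, -, -, h, -, -⟩ := fp_exists_lift y rfl f a b
    exact ⟨x, φ, h⟩
  isStronglyCartesian {x y} φ := by
    have := fp_isHomLift_fst ((FibCat.fp F G).p.map φ) φ
    have := fp_isHomLift_snd' ((FibCat.fp F G).p.map φ) φ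
    have := sc_of_fibGrpd h𝒳 ((FibCat.fp F G).p.map φ) φ.hom.fst
    have := sc_of_fibGrpd h𝒴 ((FibCat.fp F G).p.map φ) φ.hom.snd
    have := sc_of_fibGrpd h𝒮 ((FibCat.fp F G).p.map φ) (G.map φ.hom.snd)
    exact fp_sc _ φ

/-- The fibre product over the base itself of two fibred categories is fibred. -/
lemma fp_toSelf_fibered (𝒳' : BasedCategory.{v₂, u₂} C) (𝒴' : BasedCategory.{v₃, u₃} C)
    [𝒳'.p.IsFibered] [𝒴'.p.IsFibered] :
    (FibCat.fp (FibCat.toSelf 𝒳') (FibCat.toSelf 𝒴')).p.IsFibered :=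
  fp_fibered_of_preserves (fun f _ _ _ _ => selfOver_sc f _) (fun f _ _ _ _ => selfOver_sc f _)

end

end Groth.Agent.H14Fib
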