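import Groth.Agent.H14Fib.FiberFun

/-!
# Categories fibred in setoids and in sets
-/

set_option autoImplicit false
set_option backward.isDefEq.respectTransparency false
set_option backward.isDefEq.respectTransparency.types false

universe v₃ u₃ v₂ u₂ v u

open CategoryTheory CategoryTheory.Functor

namespace Groth.Agent.H14Fib

variable {C : Type u} [Category.{v} C] {𝒳 : Type u₂} [Category.{v₂} 𝒳] {p : 𝒳 ⥤ C}

/-- Fibred in setoids: morphisms are determined by their image in the base. -/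
lemma faithful_of_fibSetoid (h : FibCat.IsFibSetoid p) : p.Faithful := by
  refine ⟨fun {a b} φ ψ e => ?_⟩
  have := h.1.isStronglyCartesian ψ
  have h1 : p.IsHomLift (p.map ψ) φ := e ▸ inferInstance
  let χ := IsCartesian.map p (p.map ψ) ψ φ
  have hχ : p.IsHomLift (𝟙 (p.obj a)) χ := inferInstance
  have := (h.2 (p.obj a) (Fiber.mk rfl) (Fiber.mk rfl)).allEq
    (⟨χ, hχ⟩ : (Fiber.mk rfl : p.Fiber (p.obj a)) ⟶ Fiber.mk rfl) (𝟙 _)
  have hh : χ = 𝟙 a := congrArg Subtype.val this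
  rw [← IsCartesian.fac p (p.map ψ) ψ φ]
  change χ ≫ ψ = ψ
  rw [hh, Category.id_comp]

lemma thin_of_faithful [p.Faithful] (U : C) : Quiver.IsThin (p.Fiber U) := fun a b =>
  ⟨fun φ ψ => Subtype.ext (p.map_injective (by
    have := φ.2; have := ψ.2
    rw [IsHomLift.fac' p (𝟙 U) φ.1, IsHomLift.fac' p (𝟙 U) ψ.1]))⟩

lemma fibSetoid_iff_faithful : FibCat.IsFibSetoid p ↔ FibCat.IsFibGrpd p ∧ p.Faithful :=
  ⟨fun h => ⟨h.1, faithful_of_fibSetoid h⟩, fun ⟨h, _⟩ => ⟨h, thin_of_faithful⟩⟩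

lemma fibSetoid_of_fibSet (h : FibCat.IsFibSet p) : FibCat.IsFibSetoid p :=
  ⟨h.1, fun U _ _ => (h.2 U).subsingleton _ _⟩

lemma eq_of_homLift_fibSet (h : FibCat.IsFibSet p) {U : C} {a b : 𝒳} (φ : a ⟶ b)
    [p.IsHomLift (𝟙 U) φ] : ∃ e : a = b, φ = eqToHom e := by
  have := h.2 U
  let φ' : (Fiber.mk (IsHomLift.domain_eq p (𝟙 U) φ)) ⟶ Fiber.mk (IsHomLift.codomain_eq p (𝟙 U) φ) :=
    Fiber.homMk p U φ
  obtain rfl : a = b := congrArg Subtype.val (this.eq_of_hom φ')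
  exact ⟨rfl, congrArg Subtype.val (Subsingleton.elim φ' (𝟙 _))⟩

lemma homLift_unique [p.Faithful] {R S : C} (f : R ⟶ S) {a b : 𝒳} (φ ψ : a ⟶ b) [p.IsHomLift f φ]
    [p.IsHomLift f ψ] : φ = ψ :=
  p.map_injective (by rw [IsHomLift.fac' p f φ, IsHomLift.fac' p f ψ])

section Over

variable {𝒳' : BasedCategory.{v₂, u₂} C} {𝒴' : BasedCategory.{v₃, u₃} C}

lemma fibSetoid_target_of_isEquivOver {F : 𝒳' ⥤ᵇ 𝒴'} (hF : FibCat.IsEquivOver F)
    (h : FibCat.IsFibSetoid 𝒳'.p) : FibCat.IsFibSetoid 𝒴'.p := by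
  obtain ⟨G, hG⟩ := IsEquivOver.symm' hF
  have := faithful_of_fibSetoid h
  have hG' := isEquivalence_of_isEquivOver hG
  refine fibSetoid_iff_faithful.2 ⟨fibGrpd_target_of_isEquivOver hF h.1, ?_⟩
  have h2 : (G.toFunctor ⋙ 𝒳'.p).Faithful := inferInstance
  rw [G.w] at h2
  exact h2

lemma fibSetoid_source_of_isEquivOver {F : 𝒳' ⥤ᵇ 𝒴'} (hF : FibCat.IsEquivOver F)
    (h : FibCat.IsFibSetoid 𝒴'.p) : FibCat.IsFibSetoid 𝒳'.p := by
  obtain ⟨G, hG⟩ := IsEquivOver.symm' hF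
  exact fibSetoid_target_of_isEquivOver hG h

lemma overCat_fibSet (U : C) : FibCat.IsFibSet (FibCat.overCat U).p := by
  refine ⟨⟨fun {x V} f => ⟨Over.mk (f ≫ x.hom), Over.homMk f rfl, ?_⟩, fun {y x} φ => ?_⟩, fun V => ?_⟩
  · exact IsHomLift.map (FibCat.overCat U).p (Over.homMk f rfl : Over.mk (f ≫ x.hom) ⟶ x)
  · refine ⟨fun {z} g ψ _ => ?_⟩
    have e : g ≫ φ.left = ψ.left :=
      IsHomLift.eq_of_isHomLift (FibCat.overCat U).p (g ≫ (FibCat.overCat U).p.map φ) ψ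
    let χ : z ⟶ y := Over.homMk g (by
      change g ≫ y.hom = z.hom
      rw [← Over.w φ, ← Category.assoc, e, Over.w])
    refine ⟨χ, ⟨IsHomLift.map (FibCat.overCat U).p χ, Over.OverMorphism.ext e⟩, ?_⟩
    rintro τ ⟨_, -⟩
    exact Over.OverMorphism.ext (IsHomLift.eq_of_isHomLift (FibCat.overCat U).p g τ).symm
  · have key : ∀ {a b : Over U} (φ : a ⟶ b) (ha : a.left = V) (hb : b.left = V),
        φ.left = eqToHom (ha.trans hb.symm) → a = b := by
      rintro ⟨al, ⟨⟨⟩⟩, af⟩ ⟨bl, ⟨⟨⟩⟩, bf⟩ φ ha hb e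
      obtain rfl : bl = al := hb.trans ha.symm
      have := Over.w φ
      rw [e] at this
      simp only [eqToHom_refl] at this
      have hh : bf = af := (Category.id_comp bf).symm.trans this
      rw [hh]
    constructor
    · exact fun a b => @thin_of_faithful C _ _ _ (FibCat.overCat U).p
        (inferInstanceAs (Over.forget U).Faithful) V a b
    · intro a b φ
      have := φ.2
      refine Subtype.ext (key φ.1 a.2 b.2 ?_)
      have e := IsHomLift.fac' (FibCat.overCat U).p (𝟙 V) φ.1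
      simp only [Category.id_comp, eqToHom_trans] at e
      exact e

end Over

end Groth.Agent.H14Fib
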