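import Groth.Agent.H14Fib.Fp

/-!
# Functoriality and pasting of fibre products over the base
-/

set_option autoImplicit false
set_option backward.isDefEq.respectTransparency false
set_option backward.isDefEq.respectTransparency.types false

universe v₄ u₄ v₃ u₃ v₂ u₂ v u

open CategoryTheory CategoryTheory.Functor

namespace Groth.Agent.H14Fib

variable {C : Type u} [Category.{v} C]

/-- The component of an isomorphism of functors over `C`. -/
abbrev appIso {𝒳 𝒴 : BasedCategory.{v, max u v} C} {F G : 𝒳 ⥤ᵇ 𝒴} (e : F ≅ G) (a : 𝒳.obj) :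
    F.obj a ≅ G.obj a :=
  ((BasedNatTrans.forgetful 𝒳 𝒴).mapIso e).app a

lemma appIso_lift {𝒳 𝒴 : BasedCategory.{v, max u v} C} {F G : 𝒳 ⥤ᵇ 𝒴} (e : F ≅ G) {a : 𝒳.obj}
    {S : C} (ha : 𝒳.p.obj a = S) : 𝒴.p.IsHomLift (𝟙 S) (appIso e a).hom :=
  BasedNatTrans.isHomLift e.hom ha

lemma appIso_inv_lift {𝒳 𝒴 : BasedCategory.{v, max u v} C} {F G : 𝒳 ⥤ᵇ 𝒴} (e : F ≅ G)
    {a : 𝒳.obj} {S : C} (ha : 𝒳.p.obj a = S) : 𝒴.p.IsHomLift (𝟙 S) (appIso e a).inv :=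
  BasedNatTrans.isHomLift e.inv ha

section General

variable {𝒳 : BasedCategory.{v₂, u₂} C} {𝒴 : BasedCategory.{v₃, u₃} C}
  {𝒮 : BasedCategory.{v₄, u₄} C} {F : 𝒳 ⥤ᵇ 𝒮} {G : 𝒴 ⥤ᵇ 𝒮}

/-- An object of the fibre product over `C`. -/
def fpObj (a : 𝒳.obj) (b : 𝒴.obj) (i : F.obj a ≅ G.obj b) {U : C} (ha : 𝒳.p.obj a = U)
    (hi : 𝒮.p.IsHomLift (𝟙 U) i.hom) : (FibCat.fp F G).obj :=
  ⟨{ fst := a, snd := b, iso := i }, by subst ha; exact hi⟩

/-- An isomorphism of the fibre product from isomorphisms of the components. -/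
def fpIsoMk {x y : (FibCat.fp F G).obj} (a : x.obj.fst ≅ y.obj.fst) (b : x.obj.snd ≅ y.obj.snd)
    (h : F.map a.hom ≫ y.obj.iso.hom = x.obj.iso.hom ≫ G.map b.hom) : x ≅ y where
  hom := fpHom a.hom b.hom h
  inv := fpHom a.inv b.inv (by
    rw [← cancel_epi (F.map a.hom), ← Category.assoc, ← Functor.map_comp, a.hom_inv_id,
      CategoryTheory.Functor.map_id, Category.id_comp, reassoc_of% h, ← Functor.map_comp,
      b.hom_inv_id, CategoryTheory.Functor.map_id, Category.comp_id])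
  hom_inv_id := fp_hom_ext a.hom_inv_id b.hom_inv_id
  inv_hom_id := fp_hom_ext a.inv_hom_id b.inv_hom_id

lemma fpIsoMk_lift {x y : (FibCat.fp F G).obj} (a : x.obj.fst ≅ y.obj.fst)
    (b : x.obj.snd ≅ y.obj.snd) (h : F.map a.hom ≫ y.obj.iso.hom = x.obj.iso.hom ≫ G.map b.hom)
    {U : C} (ha : 𝒳.p.IsHomLift (𝟙 U) a.hom) :
    (FibCat.fp F G).p.IsHomLift (𝟙 U) (fpIsoMk a b h).hom :=
  (fp_isHomLift_iff _ _).2 ha

end General

variable {𝒳 𝒴 𝒮 𝒳' 𝒴' 𝒮' : BasedCategory.{v, max u v} C}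
  {F : 𝒳 ⥤ᵇ 𝒮} {G : 𝒴 ⥤ᵇ 𝒮} {F' : 𝒳' ⥤ᵇ 𝒮'} {G' : 𝒴' ⥤ᵇ 𝒮'}

section Map

variable (a : 𝒳' ⥤ᵇ 𝒳) (b : 𝒴' ⥤ᵇ 𝒴) (c : 𝒮' ⥤ᵇ 𝒮)
  (e₁ : BasedFunctor.comp F' c ≅ BasedFunctor.comp a F)
  (e₂ : BasedFunctor.comp G' c ≅ BasedFunctor.comp b G)

/-- The isomorphism of the image object. -/
def fpMapIso (x : (FibCat.fp F' G').obj) : F.obj (a.obj x.obj.fst) ≅ G.obj (b.obj x.obj.snd) :=
  (appIso e₁ x.obj.fst).symm ≪≫ c.toFunctor.mapIso x.obj.iso ≪≫ appIso e₂ x.obj.snd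

lemma fpMapIso_lift (x : (FibCat.fp F' G').obj) :
    𝒮.p.IsHomLift (𝟙 (𝒳'.p.obj x.obj.fst)) (fpMapIso a b c e₁ e₂ x).hom :=
  homLift_id_comp (appIso_inv_lift e₁ rfl)
    (homLift_id_comp (@BasedFunctor.preserves_isHomLift _ _ _ _ c _ _ _ _ _ _ x.property)
      (appIso_lift e₂ (fp_snd_obj x)))

/-- Functoriality of the fibre product in all three arguments. -/
def fpMap : FibCat.fp F' G' ⥤ᵇ FibCat.fp F G where
  toFunctor :=
    { obj := fun x => fpObj (a.obj x.obj.fst) (b.obj x.obj.snd) (fpMapIso a b c e₁ e₂ x)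
        (a.w_obj _) (fpMapIso_lift a b c e₁ e₂ x)
      map := fun {x y} f => fpHom (a.map f.hom.fst) (b.map f.hom.snd) (by
        change F.map (a.map f.hom.fst) ≫ (appIso e₁ y.obj.fst).inv ≫ c.map y.obj.iso.hom ≫
            (appIso e₂ y.obj.snd).hom =
          ((appIso e₁ x.obj.fst).inv ≫ c.map x.obj.iso.hom ≫ (appIso e₂ x.obj.snd).hom) ≫
            G.map (b.map f.hom.snd)
        have h1 : F.map (a.map f.hom.fst) ≫ (appIso e₁ y.obj.fst).inv =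
            (appIso e₁ x.obj.fst).inv ≫ c.map (F'.map f.hom.fst) :=
          e₁.inv.toNatTrans.naturality f.hom.fst
        have h2 : c.map (G'.map f.hom.snd) ≫ (appIso e₂ y.obj.snd).hom =
            (appIso e₂ x.obj.snd).hom ≫ G.map (b.map f.hom.snd) :=
          e₂.hom.toNatTrans.naturality f.hom.snd
        rw [reassoc_of% h1, ← Functor.map_comp_assoc, f.hom.w, Functor.map_comp_assoc, h2]
        simp only [Category.assoc])
      map_id := fun x => fp_hom_ext (a.toFunctor.map_id _) (b.toFunctor.map_id _)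
      map_comp := fun f g => fp_hom_ext (a.toFunctor.map_comp _ _) (b.toFunctor.map_comp _ _) }
  w := Functor.ext (fun x => a.w_obj x.obj.fst) (fun x y f => Functor.congr_hom a.w f.hom.fst)

lemma fpMap_isEquivOver [a.toFunctor.Full] [a.toFunctor.Faithful] [b.toFunctor.Full]
    [b.toFunctor.Faithful] [c.toFunctor.Full] [c.toFunctor.Faithful]
    (ha : EssSurjOver a) (hb : EssSurjOver b) :
    FibCat.IsEquivOver (fpMap a b c e₁ e₂) := by
  refine (isEquivOver_iff _).2 ⟨⟨⟨fun {x y} f => ?_⟩, ⟨fun {x y} f g h => ?_⟩⟩, fun z => ?_⟩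
  · refine ⟨fpHom (a.toFunctor.preimage f.hom.fst) (b.toFunctor.preimage f.hom.snd) ?_,
      fp_hom_ext (a.toFunctor.map_preimage _) (b.toFunctor.map_preimage _)⟩
    apply c.toFunctor.map_injective
    have hw : F.map f.hom.fst ≫ (fpMapIso a b c e₁ e₂ y).hom =
        (fpMapIso a b c e₁ e₂ x).hom ≫ G.map f.hom.snd := f.hom.w
    have h1 : F.map (a.map (a.toFunctor.preimage f.hom.fst)) ≫ (appIso e₁ y.obj.fst).inv =
        (appIso e₁ x.obj.fst).inv ≫ c.map (F'.map (a.toFunctor.preimage f.hom.fst)) :=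
      e₁.inv.toNatTrans.naturality (a.toFunctor.preimage f.hom.fst)
    have h2 : c.map (G'.map (b.toFunctor.preimage f.hom.snd)) ≫ (appIso e₂ y.obj.snd).hom =
        (appIso e₂ x.obj.snd).hom ≫ G.map (b.map (b.toFunctor.preimage f.hom.snd)) :=
      e₂.hom.toNatTrans.naturality (b.toFunctor.preimage f.hom.snd)
    rw [a.toFunctor.map_preimage] at h1
    rw [b.toFunctor.map_preimage] at h2
    rw [← cancel_epi (appIso e₁ x.obj.fst).inv, ← cancel_mono (appIso e₂ y.obj.snd).hom]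
    simp only [fpMapIso, Iso.trans_hom, Iso.symm_hom, Functor.mapIso_hom, Category.assoc] at hw
    simp only [Functor.map_comp, Category.assoc]
    rw [← reassoc_of% h1, h2]
    exact hw
  · exact fp_hom_ext (a.toFunctor.map_injective (congrArg (fun t => t.hom.fst) h))
      (b.toFunctor.map_injective (congrArg (fun t => t.hom.snd) h))
  · obtain ⟨x', d, hd⟩ := ha z.obj.fst
    obtain ⟨y', d', hd'⟩ := hb z.obj.snd
    have hxU : 𝒳'.p.obj x' = 𝒳.p.obj z.obj.fst := EssSurjOver.obj_eq d.hom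
    have hyU : 𝒴'.p.obj y' = 𝒳.p.obj z.obj.fst :=
      (EssSurjOver.obj_eq d'.hom).trans (fp_snd_obj z)
    have hd'U : 𝒴.p.IsHomLift (𝟙 (𝒳.p.obj z.obj.fst)) d'.hom := fp_snd_obj z ▸ hd'
    have hd'i := IsHomLift.lift_id_inv 𝒴.p (𝒳.p.obj z.obj.fst) d'
    let i : c.obj (F'.obj x') ≅ c.obj (G'.obj y') :=
      appIso e₁ x' ≪≫ F.toFunctor.mapIso d ≪≫ z.obj.iso ≪≫ (G.toFunctor.mapIso d').symm ≪≫
        (appIso e₂ y').symm
    have hi : 𝒮.p.IsHomLift (𝟙 (𝒳.p.obj z.obj.fst)) i.hom :=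
      homLift_id_comp (appIso_lift e₁ hxU) (homLift_id_comp
        (BasedFunctor.preserves_isHomLift F _ d.hom) (homLift_id_comp z.property
          (homLift_id_comp (BasedFunctor.preserves_isHomLift G _ d'.inv)
            (appIso_inv_lift e₂ hyU))))
    let i' := c.toFunctor.preimageIso i
    have hi' : 𝒮'.p.IsHomLift (𝟙 (𝒳.p.obj z.obj.fst)) i'.hom := by
      rw [← BasedFunctor.isHomLift_iff c]
      change 𝒮.p.IsHomLift _ (c.map (c.toFunctor.preimage i.hom))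
      rw [c.toFunctor.map_preimage]
      exact hi
    refine ⟨fpObj x' y' i' hxU hi', fpIsoMk d d' ?_, (fp_isHomLift_iff _ _).2 hd⟩
    change F.map d.hom ≫ z.obj.iso.hom =
      ((appIso e₁ x').inv ≫ c.map (c.toFunctor.preimage i.hom) ≫ (appIso e₂ y').hom) ≫ G.map d'.hom
    rw [c.toFunctor.map_preimage]
    simp only [i, Iso.trans_hom, Iso.symm_hom, Functor.mapIso_hom, Functor.mapIso_inv,
      Category.assoc, Iso.inv_hom_id_assoc]
    rw [← Functor.map_comp, d'.inv_hom_id, CategoryTheory.Functor.map_id, Category.comp_id]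

end Map

instance basedId_full (𝒳 : BasedCategory.{v, max u v} C) :
    (BasedFunctor.id 𝒳).toFunctor.Full := inferInstanceAs (𝟭 𝒳.obj).Full

instance basedId_faithful (𝒳 : BasedCategory.{v, max u v} C) :
    (BasedFunctor.id 𝒳).toFunctor.Faithful := inferInstanceAs (𝟭 𝒳.obj).Faithful

lemma essSurjOver_id (𝒳 : BasedCategory.{v, max u v} C) : EssSurjOver (BasedFunctor.id 𝒳) :=
  essSurjOver_of_isEquivOver (isEquivOver_id 𝒳)

/-- Fibre products along isomorphic functors are equivalent. -/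
lemma fp_congr_left {F₁ : 𝒳 ⥤ᵇ 𝒮} (e : F₁ ≅ F) :
    ∃ E : FibCat.fp F₁ G ⥤ᵇ FibCat.fp F G, FibCat.IsEquivOver E :=
  ⟨fpMap (BasedFunctor.id 𝒳) (BasedFunctor.id 𝒴) (BasedFunctor.id 𝒮) e (Iso.refl _),
    fpMap_isEquivOver _ _ _ _ _ (essSurjOver_id _) (essSurjOver_id _)⟩

lemma fp_congr_right {G₁ : 𝒴 ⥤ᵇ 𝒮} (e : G₁ ≅ G) :
    ∃ E : FibCat.fp F G₁ ⥤ᵇ FibCat.fp F G, FibCat.IsEquivOver E :=
  ⟨fpMap (BasedFunctor.id 𝒳) (BasedFunctor.id 𝒴) (BasedFunctor.id 𝒮) (Iso.refl _) e,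
    fpMap_isEquivOver _ _ _ _ _ (essSurjOver_id _) (essSurjOver_id _)⟩

/-- Replacing the first factor by an equivalent one. -/
lemma fp_equiv_left {a : 𝒳' ⥤ᵇ 𝒳} (ha : FibCat.IsEquivOver a) :
    ∃ E : FibCat.fp (BasedFunctor.comp a F) G ⥤ᵇ FibCat.fp F G, FibCat.IsEquivOver E := by
  obtain ⟨⟨_, _⟩, hs⟩ := (isEquivOver_iff a).1 ha
  exact ⟨fpMap a (BasedFunctor.id 𝒴) (BasedFunctor.id 𝒮) (Iso.refl _) (Iso.refl _),
    fpMap_isEquivOver _ _ _ _ _ hs (essSurjOver_id _)⟩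

end Groth.Agent.H14Fib
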