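import Groth.Agent.H14Fib.Basic

/-!
# Composition of fibred categories
-/

set_option autoImplicit false
set_option backward.isDefEq.respectTransparency false
set_option backward.isDefEq.respectTransparency.types false

universe v₃ u₃ v₂ u₂ v₁ u₁

open CategoryTheory CategoryTheory.Functor

namespace Groth.Agent.H14Fib

variable {A : Type u₁} [Category.{v₁} A] {B : Type u₂} [Category.{v₂} B] {C : Type u₃}
  [Category.{v₃} C] (F : A ⥤ B) (G : B ⥤ C)

lemma homLift_comp_functor {R S : C} (f : R ⟶ S) {a b : A} (φ : a ⟶ b) :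
    (F ⋙ G).IsHomLift f φ ↔ G.IsHomLift f (F.map φ) := by
  constructor
  · intro h
    exact IsHomLift.of_fac' G f _ (IsHomLift.domain_eq (F ⋙ G) f φ)
      (IsHomLift.codomain_eq (F ⋙ G) f φ) (IsHomLift.fac' (F ⋙ G) f φ)
  · intro h
    exact IsHomLift.of_fac' (F ⋙ G) f _ (IsHomLift.domain_eq G f (F.map φ))
      (IsHomLift.codomain_eq G f (F.map φ)) (IsHomLift.fac' G f (F.map φ))

/-- A morphism strongly cartesian for `F` with strongly cartesian image for `G` is so for the composite. -/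
lemma sc_comp {R S : C} (f : R ⟶ S) {a b : A} (φ : a ⟶ b)
    [F.IsStronglyCartesian (F.map φ) φ] [hG : G.IsStronglyCartesian f (F.map φ)] :
    (F ⋙ G).IsStronglyCartesian f φ := by
  have := (homLift_comp_functor F G f φ).2 inferInstance
  refine ⟨fun {a'} g ψ hψ => ?_⟩
  have : G.IsHomLift (g ≫ f) (F.map ψ) := (homLift_comp_functor F G (g ≫ f) ψ).1 hψ
  obtain ⟨κ, ⟨hκ, hκ'⟩, huniq⟩ := IsStronglyCartesian.universal_property G f (F.map φ)
    (show G.obj (F.obj a') ⟶ R from g) (g ≫ f) rfl (F.map ψ)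
  obtain ⟨χ, ⟨hχ, hχ'⟩, huniq'⟩ := IsStronglyCartesian.universal_property F (F.map φ) φ κ
    (F.map ψ) hκ'.symm ψ
  have e : F.map χ = κ := (IsHomLift.eq_of_isHomLift F κ χ).symm
  refine ⟨χ, ⟨(homLift_comp_functor F G g χ).2 (by rw [e]; exact hκ), hχ'⟩, ?_⟩
  rintro τ ⟨hτ, hτ'⟩
  have e' : F.map τ = κ := huniq _ ⟨(homLift_comp_functor F G g τ).1 hτ, by rw [← F.map_comp, hτ']⟩
  exact huniq' τ ⟨e' ▸ IsHomLift.map F τ, hτ'⟩

lemma isFibered_comp [F.IsFibered] [G.IsFibered] : (F ⋙ G).IsFibered := by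
  refine Functor.IsFibered.of_exists_isStronglyCartesian fun a R f => ?_
  obtain ⟨b, ψ, hψ⟩ := isFibered_exists_sc G (a := F.obj a) rfl f
  obtain ⟨a', φ, hφ⟩ := isFibered_exists_sc F (a := a) rfl ψ
  obtain rfl : F.obj a' = b := IsHomLift.domain_eq F ψ φ
  obtain rfl : ψ = F.map φ := IsHomLift.eq_of_isHomLift F ψ φ
  exact ⟨a', φ, sc_comp F G f φ⟩

lemma fibGrpd_comp (hF : FibCat.IsFibGrpd F) (hG : FibCat.IsFibGrpd G) :
    FibCat.IsFibGrpd (F ⋙ G) where
  exists_lift {a V} f := by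
    obtain ⟨b, ψ, hψ⟩ := exists_sc_lift hG (a := F.obj a) rfl f
    obtain ⟨a', φ, hφ⟩ := exists_sc_lift hF (a := a) rfl ψ
    obtain rfl : F.obj a' = b := IsHomLift.domain_eq F ψ φ
    obtain rfl : ψ = F.map φ := IsHomLift.eq_of_isHomLift F ψ φ
    exact ⟨a', φ, (homLift_comp_functor F G f φ).2 hψ.toIsHomLift⟩
  isStronglyCartesian φ := by
    have := hF.isStronglyCartesian φ
    have : G.IsStronglyCartesian ((F ⋙ G).map φ) (F.map φ) := hG.isStronglyCartesian (F.map φ)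
    exact sc_comp F G _ φ

end Groth.Agent.H14Fib
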