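import Groth.Agent.H14Fib.Setoid

/-!
# Composing with a category fibred in sets
-/

set_option autoImplicit false
set_option backward.isDefEq.respectTransparency false
set_option backward.isDefEq.respectTransparency.types false

universe v₃ u₃ v₂ u₂ v u

open CategoryTheory CategoryTheory.Functor

namespace Groth.Agent.H14Fib

variable {C : Type u} [Category.{v} C] {𝒢 : Type u₂} [Category.{v₂} 𝒢]
  {ℱ : Type u₃} [Category.{v₃} ℱ] {G : 𝒢 ⥤ C}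

/-- Two lifts of the same morphism with the same target coincide. -/
lemma fibSet_lift_unique (hG : FibCat.IsFibSet G) {x : 𝒢} {R S : C} (f : R ⟶ S) {y y' : 𝒢}
    (φ : y ⟶ x) (φ' : y' ⟶ x) [G.IsHomLift f φ] [G.IsHomLift f φ'] :
    ∃ e : y' = y, φ' = eqToHom e ≫ φ := by
  have := sc_of_fibGrpd hG.1 f φ
  obtain ⟨e, he⟩ := eq_of_homLift_fibSet hG (U := R) (IsCartesian.map G f φ φ')
  exact ⟨e, by rw [← he, IsCartesian.fac]⟩

lemma comp_isHomLift_of (F : ℱ ⥤ 𝒢) {a b : ℱ} (φ : a ⟶ b) {R S : 𝒢} (f : R ⟶ S)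
    [F.IsHomLift f φ] : (F ⋙ G).IsHomLift (G.map f) φ := by
  subst_hom_lift F f φ
  exact IsHomLift.map (F ⋙ G) φ

lemma sc_comp_iff (hG : FibCat.IsFibSet G) (F : ℱ ⥤ 𝒢) {a b : ℱ} (φ : a ⟶ b) :
    F.IsStronglyCartesian (F.map φ) φ ↔
      (F ⋙ G).IsStronglyCartesian ((F ⋙ G).map φ) φ := by
  have := faithful_of_fibSetoid (fibSetoid_of_fibSet hG)
  constructor
  · intro h
    have := hG.1.isStronglyCartesian (F.map φ)
    refine ⟨fun {a'} g ψ _ => ?_⟩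
    have : G.IsHomLift (g ≫ G.map (F.map φ)) (F.map ψ) :=
      IsHomLift.of_fac' G _ _ rfl rfl (IsHomLift.fac' (F ⋙ G) (g ≫ (F ⋙ G).map φ) ψ)
    obtain ⟨χ, ⟨c1, c2⟩, cu⟩ := IsStronglyCartesian.universal_property G (G.map (F.map φ))
      (F.map φ) g _ rfl (F.map ψ)
    have : F.IsHomLift (χ ≫ F.map φ) ψ := c2 ▸ IsHomLift.map F ψ
    obtain ⟨θ, ⟨d1, d2⟩, du⟩ := IsStronglyCartesian.universal_property F (F.map φ) φ χ _ rfl ψ
    refine ⟨θ, ⟨?_, d2⟩, ?_⟩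
    · obtain rfl : χ = F.map θ := IsHomLift.eq_of_isHomLift F χ θ
      obtain rfl : g = G.map (F.map θ) := IsHomLift.eq_of_isHomLift G g (F.map θ)
      exact IsHomLift.map (F ⋙ G) θ
    · rintro τ ⟨t1, rfl⟩
      obtain rfl : g = G.map (F.map τ) := IsHomLift.eq_of_isHomLift (F ⋙ G) g τ
      obtain rfl : F.map τ = χ := cu _ ⟨inferInstance, (F.map_comp _ _).symm⟩
      exact du τ ⟨inferInstance, rfl⟩
  · intro h
    refine ⟨fun {a'} g ψ _ => ?_⟩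
    have hψ : (F ⋙ G).IsHomLift (G.map g ≫ (F ⋙ G).map φ) ψ := by
      have := comp_isHomLift_of (G := G) F ψ (g ≫ F.map φ)
      rw [G.map_comp] at this
      exact this
    obtain ⟨χ, ⟨c1, c2⟩, cu⟩ := IsStronglyCartesian.universal_property (F ⋙ G)
      ((F ⋙ G).map φ) φ (G.map g) _ rfl ψ
    refine ⟨χ, ⟨?_, c2⟩, ?_⟩
    · have : G.map g = G.map (F.map χ) := IsHomLift.eq_of_isHomLift (F ⋙ G) (G.map g) χ
      rw [G.map_injective this]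
      exact IsHomLift.map F χ
    · rintro τ ⟨t1, rfl⟩
      exact cu τ ⟨comp_isHomLift_of F τ g, rfl⟩

/-- Lifts along `F` of morphisms of `𝒢` are lifts along `F ⋙ G` of their images, and conversely. -/
lemma isHomLift_of_comp (hG : FibCat.IsFibSet G) (F : ℱ ⥤ 𝒢) {a b : ℱ} (φ : a ⟶ b) {y : 𝒢}
    (ψ : y ⟶ F.obj b) [(F ⋙ G).IsHomLift (G.map ψ) φ] : F.IsHomLift ψ φ := by
  have : G.IsHomLift (G.map ψ) (F.map φ) :=
    IsHomLift.of_fac' G _ _ (IsHomLift.domain_eq (F ⋙ G) (G.map ψ) φ) rfl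
      (IsHomLift.fac' (F ⋙ G) (G.map ψ) φ)
  obtain ⟨e, he⟩ := fibSet_lift_unique hG (G.map ψ) ψ (F.map φ)
  subst e
  rw [eqToHom_refl, Category.id_comp] at he
  rw [← he]
  infer_instance

lemma fibered_iff_comp (hG : FibCat.IsFibSet G) (F : ℱ ⥤ 𝒢) :
    F.IsFibered ↔ (F ⋙ G).IsFibered := by
  constructor
  · intro h
    refine IsFibered.of_exists_isStronglyCartesian fun a R f => ?_
    obtain ⟨y, ψ, hψ⟩ := hG.1.exists_lift (x := F.obj a) f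
    obtain ⟨b, φ, hφ⟩ := isFibered_exists_sc F (a := a) rfl ψ
    obtain rfl : F.obj b = y := IsHomLift.domain_eq F ψ φ
    obtain rfl : ψ = F.map φ := IsHomLift.eq_of_isHomLift F ψ φ
    refine ⟨b, φ, ?_⟩
    have := (sc_comp_iff hG F φ).1 hφ
    have : (F ⋙ G).IsHomLift f φ :=
      IsHomLift.of_fac' (F ⋙ G) f φ (IsHomLift.domain_eq G f (F.map φ)) rfl
        (IsHomLift.fac' G f (F.map φ))
    exact sc_of_self f φ
  · intro h
    refine IsFibered.of_exists_isStronglyCartesian fun a y ψ => ?_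
    obtain ⟨b, φ, hφ⟩ := isFibered_exists_sc (F ⋙ G) (a := a) rfl (G.map ψ)
    have := isHomLift_of_comp hG F φ ψ
    have := (sc_comp_iff hG F φ).2 (sc_self (G.map ψ) φ)
    exact ⟨b, φ, sc_of_self ψ φ⟩

lemma fibGrpd_iff_comp (hG : FibCat.IsFibSet G) (F : ℱ ⥤ 𝒢) :
    FibCat.IsFibGrpd F ↔ FibCat.IsFibGrpd (F ⋙ G) := by
  constructor
  · intro h
    refine ⟨fun {a R} f => ?_, fun φ => (sc_comp_iff hG F φ).1 (h.isStronglyCartesian φ)⟩
    have := (fibered_iff_comp hG F).1 (isFibered_of_fibGrpd h)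
    obtain ⟨b, φ, hφ⟩ := isFibered_exists_sc (F ⋙ G) (a := a) rfl f
    exact ⟨b, φ, inferInstance⟩
  · intro h
    refine ⟨fun {a y} f => ?_, fun φ => (sc_comp_iff hG F φ).2 (h.isStronglyCartesian φ)⟩
    have := (fibered_iff_comp hG F).2 (isFibered_of_fibGrpd h)
    obtain ⟨b, φ, hφ⟩ := isFibered_exists_sc F (a := a) rfl f
    exact ⟨b, φ, inferInstance⟩

lemma fibSet_iff_comp (hG : FibCat.IsFibSet G) (F : ℱ ⥤ 𝒢) :
    FibCat.IsFibSet F ↔ FibCat.IsFibSet (F ⋙ G) := by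
  constructor
  · intro h
    refine ⟨(fibGrpd_iff_comp hG F).1 h.1, fun U => ?_⟩
    have key : ∀ {a b : (F ⋙ G).Fiber U} (φ : a ⟶ b), ∃ e : a.1 = b.1, φ.1 = eqToHom e := by
      intro a b φ
      have := φ.2
      have : G.IsHomLift (𝟙 U) (F.map φ.1) :=
        IsHomLift.of_fac' G _ _ a.2 b.2 (IsHomLift.fac' (F ⋙ G) (𝟙 U) φ.1)
      obtain ⟨e, he⟩ := eq_of_homLift_fibSet hG (U := U) (F.map φ.1)
      have : F.IsHomLift (𝟙 (F.obj b.1)) φ.1 :=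
        IsHomLift.of_fac' F _ _ e rfl (by simp [he])
      exact eq_of_homLift_fibSet h (U := F.obj b.1) φ.1
    refine { subsingleton := fun a b => ⟨fun φ ψ => ?_⟩, eq_of_hom := fun φ => Subtype.ext (key φ).1 }
    obtain ⟨_, h1⟩ := key φ
    obtain ⟨_, h2⟩ := key ψ
    exact Subtype.ext (h1.trans h2.symm)
  · intro h
    refine ⟨(fibGrpd_iff_comp hG F).2 h.1, fun y => ?_⟩
    have key : ∀ {a b : F.Fiber y} (φ : a ⟶ b), ∃ e : a.1 = b.1, φ.1 = eqToHom e := by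
      intro a b φ
      have := φ.2
      have := comp_isHomLift_of (G := G) F φ.1 (𝟙 y)
      rw [G.map_id] at this
      exact eq_of_homLift_fibSet h (U := G.obj y) φ.1
    refine { subsingleton := fun a b => ⟨fun φ ψ => ?_⟩, eq_of_hom := fun φ => Subtype.ext (key φ).1 }
    obtain ⟨_, h1⟩ := key φ
    obtain ⟨_, h2⟩ := key ψ
    exact Subtype.ext (h1.trans h2.symm)

lemma fibSet_iff_existsUnique :
    FibCat.IsFibSet G ↔
      ∀ (η : 𝒢) (U : C) (f : U ⟶ G.obj η), ∃! φ : (Σ ξ : 𝒢, (ξ ⟶ η)), G.IsHomLift f φ.2 := by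
  constructor
  · intro h η U f
    obtain ⟨y, φ, hφ⟩ := h.1.exists_lift (x := η) f
    refine ⟨⟨y, φ⟩, hφ, ?_⟩
    rintro ⟨y', φ'⟩ (hφ' : G.IsHomLift f φ')
    obtain ⟨rfl, rfl⟩ := fibSet_lift_unique h f φ φ'
    simp
  · intro h
    have uniq : ∀ {η ξ ξ' : 𝒢} {R S : C} (f : R ⟶ S) (φ : ξ ⟶ η) (φ' : ξ' ⟶ η),
        G.IsHomLift f φ → G.IsHomLift f φ' → (⟨ξ, φ⟩ : Σ ξ, (ξ ⟶ η)) = ⟨ξ', φ'⟩ := by
      intro η ξ ξ' R S f φ φ' h1 h2
      have hS := IsHomLift.codomain_eq G f φ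
      subst hS
      exact (h η R f).unique (y₁ := ⟨ξ, φ⟩) (y₂ := ⟨ξ', φ'⟩) h1 h2
    refine ⟨⟨fun {x V} f => ?_, fun {y x} φ => ⟨fun {z} g ψ _ => ?_⟩⟩, fun U => ?_⟩
    · obtain ⟨⟨y, φ⟩, hφ, -⟩ := h x V f
      exact ⟨y, φ, hφ⟩
    · obtain ⟨⟨z', χ⟩, (hχ : G.IsHomLift g χ), -⟩ := h y (G.obj z) g
      have h1 : G.IsHomLift (g ≫ G.map φ) (χ ≫ φ) := inferInstance
      have := uniq (g ≫ G.map φ) (χ ≫ φ) ψ h1 inferInstance
      obtain ⟨rfl, e⟩ := Sigma.mk.inj_iff.1 this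
      refine ⟨χ, ⟨hχ, eq_of_heq e⟩, ?_⟩
      rintro τ ⟨hτ, -⟩
      exact eq_of_heq (Sigma.mk.inj_iff.1 (uniq g τ χ hτ hχ)).2
    · have key : ∀ {a b : G.Fiber U} (φ : a ⟶ b),
          (⟨a.1, φ.1⟩ : Σ ξ, (ξ ⟶ b.1)) = ⟨b.1, 𝟙 b.1⟩ := fun {a b} φ =>
        uniq (𝟙 U) φ.1 (𝟙 b.1) φ.2 (IsHomLift.id b.2)
      refine { subsingleton := fun a b => ⟨fun φ ψ => ?_⟩,
               eq_of_hom := fun φ => Subtype.ext (Sigma.mk.inj_iff.1 (key φ)).1 }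
      exact Subtype.ext (eq_of_heq (Sigma.mk.inj_iff.1 ((key φ).trans (key ψ).symm)).2)

end Groth.Agent.H14Fib
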