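import Groth.Agent.H14Fib.Fp

/-!
# Cartesian morphisms in the fibre product over the base itself
-/

set_option autoImplicit false
set_option backward.isDefEq.respectTransparency false
set_option backward.isDefEq.respectTransparency.types false

universe v₃ u₃ v₂ u₂ v u

open CategoryTheory CategoryTheory.Functor

namespace Groth.Agent.H14Fib

variable {C : Type u} [Category.{v} C] {𝒳 : BasedCategory.{v₂, u₂} C}
  {𝒴 : BasedCategory.{v₃, u₃} C}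

/-- Morphisms of the base over itself lying over the same morphism coincide. -/
lemma selfOver_homLift_unique {R S : C} (f : R ⟶ S) {a b : C} (φ ψ : a ⟶ b)
    [(FibCat.selfOver C).p.IsHomLift f φ] [(FibCat.selfOver C).p.IsHomLift f ψ] : φ = ψ :=
  (IsHomLift.fac' (FibCat.selfOver C).p f φ).trans (IsHomLift.fac' (FibCat.selfOver C).p f ψ).symm

lemma fpSelf_isCartesian {R S : C} (f : R ⟶ S)
    {x y : (FibCat.fp (FibCat.toSelf 𝒳) (FibCat.toSelf 𝒴)).obj} (φ : x ⟶ y)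
    [𝒳.p.IsCartesian f φ.hom.fst] [𝒴.p.IsCartesian f φ.hom.snd] :
    (FibCat.fp (FibCat.toSelf 𝒳) (FibCat.toSelf 𝒴)).p.IsCartesian f φ := by
  have hl : (FibCat.fp (FibCat.toSelf 𝒳) (FibCat.toSelf 𝒴)).p.IsHomLift f φ :=
    (fp_isHomLift_iff f φ).2 inferInstance
  refine { toIsHomLift := hl, universal_property := fun {z} ψ _ => ?_ }
  have := fp_isHomLift_fst f ψ
  have := fp_isHomLift_snd' f ψ
  obtain ⟨a, ⟨ha, ha'⟩, hau⟩ :=
    IsCartesian.universal_property (p := 𝒳.p) (f := f) (φ := φ.hom.fst) ψ.hom.fst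
  obtain ⟨b, ⟨hb, hb'⟩, hbu⟩ :=
    IsCartesian.universal_property (p := 𝒴.p) (f := f) (φ := φ.hom.snd) ψ.hom.snd
  have hz := fp_iso_isHomLift z
    (IsHomLift.domain_eq (FibCat.fp (FibCat.toSelf 𝒳) (FibCat.toSelf 𝒴)).p f ψ)
  have hx := fp_iso_isHomLift x
    (IsHomLift.domain_eq (FibCat.fp (FibCat.toSelf 𝒳) (FibCat.toSelf 𝒴)).p f φ)
  let F := FibCat.toSelf 𝒳
  let G := FibCat.toSelf 𝒴
  have hw : F.map a ≫ x.obj.iso.hom = z.obj.iso.hom ≫ G.map b := by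
    have h1 : (FibCat.selfOver C).p.IsHomLift (𝟙 R) (F.map a ≫ x.obj.iso.hom) :=
      homLift_id_comp (BasedFunctor.preserves_isHomLift F _ a) hx
    have h2 : (FibCat.selfOver C).p.IsHomLift (𝟙 R) (z.obj.iso.hom ≫ G.map b) :=
      homLift_id_comp hz (BasedFunctor.preserves_isHomLift G _ b)
    exact @selfOver_homLift_unique C _ _ _ (𝟙 R) _ _ _ _ h1 h2
  refine ⟨fpHom a b hw, ⟨(fp_isHomLift_iff _ _).2 ha, fp_hom_ext ha' hb'⟩, ?_⟩
  rintro χ ⟨hχ, rfl⟩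
  exact fp_hom_ext (hau _ ⟨fp_isHomLift_fst _ χ, rfl⟩) (hbu _ ⟨fp_isHomLift_snd' _ χ, rfl⟩)

/-- The object of the fibre product over the base given by two objects over one base object. -/
def fpSelfObj (a : 𝒳.obj) (b : 𝒴.obj) (h : 𝒳.p.obj a = 𝒴.p.obj b) :
    (FibCat.fp (FibCat.toSelf 𝒳) (FibCat.toSelf 𝒴)).obj :=
  ⟨{ fst := a, snd := b, iso := eqToIso h }, by
    change (FibCat.selfOver C).p.IsHomLift (𝟙 (𝒳.p.obj a)) (eqToHom h)
    exact IsHomLift.of_fac' _ _ _ rfl h.symm (by simp; rfl)⟩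

/-- A morphism into an object of the fibre product over the base from two lifts of one morphism. -/
def fpSelfHom {a : 𝒳.obj} {b : 𝒴.obj} (h : 𝒳.p.obj a = 𝒴.p.obj b)
    {y : (FibCat.fp (FibCat.toSelf 𝒳) (FibCat.toSelf 𝒴)).obj} (α : a ⟶ y.obj.fst)
    (β : b ⟶ y.obj.snd) {R S : C} (f : R ⟶ S) [hα : 𝒳.p.IsHomLift f α] [hβ : 𝒴.p.IsHomLift f β] :
    fpSelfObj a b h ⟶ y :=
  fpHom α β (by
    have hy := fp_iso_isHomLift y (IsHomLift.codomain_eq 𝒳.p f α)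
    have hh := fp_iso_isHomLift (fpSelfObj a b h) (IsHomLift.domain_eq 𝒳.p f α)
    have h1 : (FibCat.selfOver C).p.IsHomLift (f ≫ 𝟙 S)
        ((FibCat.toSelf 𝒳).map α ≫ y.obj.iso.hom) :=
      homLift_comp' (BasedFunctor.preserves_isHomLift (FibCat.toSelf 𝒳) f α) hy
    have h2 : (FibCat.selfOver C).p.IsHomLift (𝟙 R ≫ f)
        ((fpSelfObj a b h).obj.iso.hom ≫ (FibCat.toSelf 𝒴).map β) :=
      homLift_comp' hh (BasedFunctor.preserves_isHomLift (FibCat.toSelf 𝒴) f β)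
    rw [Category.comp_id] at h1
    rw [Category.id_comp] at h2
    exact @selfOver_homLift_unique C _ _ _ f _ _ _ _ h1 h2)

lemma fpSelf_components {R S : C} (f : R ⟶ S)
    {x y : (FibCat.fp (FibCat.toSelf 𝒳) (FibCat.toSelf 𝒴)).obj} (φ : x ⟶ y)
    [hφ : (FibCat.fp (FibCat.toSelf 𝒳) (FibCat.toSelf 𝒴)).p.IsCartesian f φ] :
    𝒳.p.IsCartesian f φ.hom.fst ∧ 𝒴.p.IsCartesian f φ.hom.snd := by
  have hfst := fp_isHomLift_fst f φ
  have hsnd := fp_isHomLift_snd' f φ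
  have hxR := IsHomLift.domain_eq (FibCat.fp (FibCat.toSelf 𝒳) (FibCat.toSelf 𝒴)).p f φ
  constructor
  · refine { universal_property := fun {a} α hα => ?_ }
    have ha := IsHomLift.domain_eq 𝒳.p f α
    have hb : 𝒳.p.obj a = 𝒴.p.obj x.obj.snd := ha.trans (hxR.symm.trans (fp_snd_obj x).symm)
    let ψ := fpSelfHom hb α φ.hom.snd f
    have : (FibCat.fp (FibCat.toSelf 𝒳) (FibCat.toSelf 𝒴)).p.IsHomLift f ψ :=
      (fp_isHomLift_iff f ψ).2 hα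
    obtain ⟨χ, ⟨hχ, hχ'⟩, hu⟩ := IsCartesian.universal_property
      (p := (FibCat.fp (FibCat.toSelf 𝒳) (FibCat.toSelf 𝒴)).p) (f := f) (φ := φ) ψ
    refine ⟨χ.hom.fst, ⟨fp_isHomLift_fst _ χ, congrArg (fun t => t.hom.fst) hχ'⟩, ?_⟩
    rintro τ ⟨hτ, hτ'⟩
    have : 𝒴.p.IsHomLift (𝟙 R) (𝟙 x.obj.snd) := IsHomLift.id ((fp_snd_obj x).trans hxR)
    let T := fpSelfHom hb τ (𝟙 x.obj.snd) (𝟙 R)
    have := hu T ⟨(fp_isHomLift_iff _ T).2 hτ, fp_hom_ext hτ' (Category.id_comp _)⟩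
    exact congrArg (fun t => t.hom.fst) this
  · refine { universal_property := fun {b} β hβ => ?_ }
    have hb := IsHomLift.domain_eq 𝒴.p f β
    have ha : 𝒳.p.obj x.obj.fst = 𝒴.p.obj b := hxR.trans hb.symm
    let ψ := fpSelfHom ha φ.hom.fst β f
    have : (FibCat.fp (FibCat.toSelf 𝒳) (FibCat.toSelf 𝒴)).p.IsHomLift f ψ :=
      (fp_isHomLift_iff f ψ).2 hfst
    obtain ⟨χ, ⟨hχ, hχ'⟩, hu⟩ := IsCartesian.universal_property
      (p := (FibCat.fp (FibCat.toSelf 𝒳) (FibCat.toSelf 𝒴)).p) (f := f) (φ := φ) ψ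
    refine ⟨χ.hom.snd, ⟨fp_isHomLift_snd' _ χ, congrArg (fun t => t.hom.snd) hχ'⟩, ?_⟩
    rintro τ ⟨hτ, hτ'⟩
    have : 𝒳.p.IsHomLift (𝟙 R) (𝟙 x.obj.fst) := IsHomLift.id hxR
    let T := fpSelfHom ha (𝟙 x.obj.fst) τ (𝟙 R)
    have := hu T ⟨(fp_isHomLift_iff _ T).2 (IsHomLift.id hxR : 𝒳.p.IsHomLift (𝟙 R) (𝟙 x.obj.fst)),
      fp_hom_ext (Category.id_comp _) hτ'⟩
    exact congrArg (fun t => t.hom.snd) this

lemma fpSelf_isPreFibered (h𝒳 : 𝒳.p.IsPreFibered) (h𝒴 : 𝒴.p.IsPreFibered) :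
    (FibCat.fp (FibCat.toSelf 𝒳) (FibCat.toSelf 𝒴)).p.IsPreFibered := by
  refine ⟨fun {y R} f => ?_⟩
  obtain ⟨a, α, hα⟩ := IsPreFibered.exists_isCartesian 𝒳.p (a := y.obj.fst) rfl f
  obtain ⟨b, β, hβ⟩ := IsPreFibered.exists_isCartesian 𝒴.p (a := y.obj.snd) (fp_snd_obj y) f
  have h := (IsHomLift.domain_eq 𝒳.p f α).trans (IsHomLift.domain_eq 𝒴.p f β).symm
  have h1 : 𝒳.p.IsCartesian f (fpSelfHom h α β f).hom.fst := hα
  have h2 : 𝒴.p.IsCartesian f (fpSelfHom h α β f).hom.snd := hβ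
  exact ⟨_, fpSelfHom h α β f, fpSelf_isCartesian f _⟩

end Groth.Agent.H14Fib
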