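import Groth.Agent.H14Fib.Magic
import Groth.Agent.H14Fib.FpSelf
import Groth.Agent.H14Stk.Psh
import Groth.Agent.H14Stk.Gerbe

/-!
# Fibre products over a product of two categories over the base
-/

set_option autoImplicit false
set_option backward.isDefEq.respectTransparency false
set_option backward.isDefEq.respectTransparency.types false

universe v u

open CategoryTheory

namespace Groth.Agent.H14Fib

variable {C : Type u} [Category.{v} C] {𝒜 ℬ 𝒳 𝒴 : BasedCategory.{v, max u v} C}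

/-- The base category over itself is the category of a terminal presheaf. -/
def selfToPsh : FibCat.selfOver C ⥤ᵇ
    Stk.ofPsh ((Functor.const Cᵒᵖ).obj PUnit.{u+1} : Cᵒᵖ ⥤ Type u) where
  toFunctor := { obj := fun U => ⟨U, PUnit.unit⟩, map := fun f => ⟨f, rfl⟩ }
  w := rfl

lemma selfToPsh_isEquivOver : FibCat.IsEquivOver (selfToPsh (C := C)) := by
  let G : Stk.ofPsh ((Functor.const Cᵒᵖ).obj PUnit.{u+1} : Cᵒᵖ ⥤ Type u) ⥤ᵇ FibCat.selfOver C :=
    { toFunctor := { obj := fun a => a.base, map := fun f => f.hom }, w := rfl }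
  exact ⟨G, ⟨eqToIso rfl⟩, ⟨eqToIso rfl⟩⟩

variable (a : 𝒜 ⥤ᵇ FibCat.fp (FibCat.toSelf 𝒳) (FibCat.toSelf 𝒴))
  (b : ℬ ⥤ᵇ FibCat.fp (FibCat.toSelf 𝒳) (FibCat.toSelf 𝒴))

/-- The first component of the base change over a product. -/
def prodFpFst : FibCat.fp a b ⥤ᵇ FibCat.fp
    (BasedFunctor.comp a (FibCat.fpFst _ _)) (BasedFunctor.comp b (FibCat.fpFst _ _)) :=
  FibCat.fpLift (F := BasedFunctor.comp a (FibCat.fpFst _ _))
    (G := BasedFunctor.comp b (FibCat.fpFst _ _)) (FibCat.fpFst a b) (FibCat.fpSnd a b)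
    ((H14Stk.post (FibCat.fp a b) (FibCat.fpFst _ _)).mapIso (FibCat.fpIso a b))

/-- The second component of the base change over a product. -/
def prodFpSnd : FibCat.fp a b ⥤ᵇ FibCat.fp
    (BasedFunctor.comp a (FibCat.fpSnd _ _)) (BasedFunctor.comp b (FibCat.fpSnd _ _)) :=
  FibCat.fpLift (F := BasedFunctor.comp a (FibCat.fpSnd _ _))
    (G := BasedFunctor.comp b (FibCat.fpSnd _ _)) (FibCat.fpFst a b) (FibCat.fpSnd a b)
    ((H14Stk.post (FibCat.fp a b) (FibCat.fpSnd _ _)).mapIso (FibCat.fpIso a b))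

/-- The square condition in a fibre product over the base is automatic. -/
lemma selfFp_w {x y : (FibCat.fp (FibCat.toSelf 𝒳) (FibCat.toSelf 𝒴)).obj} {R S : C}
    (f : R ⟶ S) {α : x.obj.fst ⟶ y.obj.fst} {β : x.obj.snd ⟶ y.obj.snd}
    (hα : 𝒳.p.IsHomLift f α) (hβ : 𝒴.p.IsHomLift f β) :
    (FibCat.toSelf 𝒳).map α ≫ y.obj.iso.hom = x.obj.iso.hom ≫ (FibCat.toSelf 𝒴).map β := by
  have hy := fp_iso_isHomLift y (IsHomLift.codomain_eq 𝒳.p f α)
  have hx := fp_iso_isHomLift x (IsHomLift.domain_eq 𝒳.p f α)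
  have h1 : (FibCat.selfOver C).p.IsHomLift (f ≫ 𝟙 S)
      ((FibCat.toSelf 𝒳).map α ≫ y.obj.iso.hom) :=
    homLift_comp' (BasedFunctor.preserves_isHomLift (FibCat.toSelf 𝒳) f α) hy
  have h2 : (FibCat.selfOver C).p.IsHomLift (𝟙 R ≫ f)
      (x.obj.iso.hom ≫ (FibCat.toSelf 𝒴).map β) :=
    homLift_comp' hx (BasedFunctor.preserves_isHomLift (FibCat.toSelf 𝒴) f β)
  rw [Category.comp_id] at h1
  rw [Category.id_comp] at h2
  exact @selfOver_homLift_unique C _ _ _ f _ _ _ _ h1 h2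

variable {𝒵 : BasedCategory.{v, max u v} C}

/-- Down to the product of the sources. -/
def prodDown (F : 𝒜 ⥤ᵇ 𝒵) (G : ℬ ⥤ᵇ 𝒵) :
    FibCat.fp F G ⥤ᵇ FibCat.fp (FibCat.toSelf 𝒜) (FibCat.toSelf ℬ) :=
  FibCat.fpLift (FibCat.fpFst F G) (FibCat.fpSnd F G)
    (eqToIso ((H14Stk.comp_toSelf _).trans (H14Stk.comp_toSelf _).symm))

/-- A fibre product over a product as a fibre product of fibre products. -/
def prodFp : FibCat.fp a b ⥤ᵇ
    FibCat.fp
      (prodDown (BasedFunctor.comp a (FibCat.fpFst _ _)) (BasedFunctor.comp b (FibCat.fpFst _ _)))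
      (prodDown (BasedFunctor.comp a (FibCat.fpSnd _ _)) (BasedFunctor.comp b (FibCat.fpSnd _ _))) :=
  FibCat.fpLift (prodFpFst a b) (prodFpSnd a b)
    (H14Stk.mkIso (fun x => fpIsoMk (Iso.refl _) (Iso.refl _)
        (selfFp_w (𝟙 (𝒜.p.obj x.obj.fst)) (IsHomLift.id rfl) (IsHomLift.id (fp_snd_obj x))))
      (fun {x y} m => fp_hom_ext ((Category.comp_id _).trans (Category.id_comp _).symm)
        ((Category.comp_id _).trans (Category.id_comp _).symm))
      (fun x => (fp_isHomLift_iff _ _).2 (IsHomLift.id rfl)))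

lemma prodFp_isEquivOver : FibCat.IsEquivOver (prodFp a b) := by
  refine (isEquivOver_iff _).2 ⟨⟨⟨fun {x y} m => ?_⟩, ⟨fun {x y} m n h => ?_⟩⟩, fun z => ?_⟩
  · let α := m.hom.fst.hom.fst
    let β := m.hom.fst.hom.snd
    have hα : m.hom.snd.hom.fst = α :=
      ((Category.id_comp _).symm.trans
        ((congrArg (fun t => t.hom.fst) m.hom.w).symm.trans (Category.comp_id _)))
    have hβ : m.hom.snd.hom.snd = β :=
      ((Category.id_comp _).symm.trans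
        ((congrArg (fun t => t.hom.snd) m.hom.w).symm.trans (Category.comp_id _)))
    have h1 : (a.map α).hom.fst ≫ y.obj.iso.hom.hom.fst = x.obj.iso.hom.hom.fst ≫ (b.map β).hom.fst :=
      m.hom.fst.hom.w
    have h2 : (a.map α).hom.snd ≫ y.obj.iso.hom.hom.snd = x.obj.iso.hom.hom.snd ≫ (b.map β).hom.snd := by
      have h := m.hom.snd.hom.w
      rw [hα, hβ] at h
      exact h
    exact ⟨fpHom α β (fp_hom_ext h1 h2),
      fp_hom_ext (fp_hom_ext rfl rfl) (fp_hom_ext hα.symm hβ.symm)⟩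
  · exact fp_hom_ext (congrArg (fun t => t.hom.fst.hom.fst) h)
      (congrArg (fun t => t.hom.fst.hom.snd) h)
  · obtain ⟨⟨p, q, j⟩, hj⟩ := z
    let A := p.obj.fst
    let B := p.obj.snd
    let jA : A ≅ q.obj.fst :=
      (FibCat.fpFst (FibCat.toSelf 𝒜) (FibCat.toSelf ℬ)).toFunctor.mapIso j
    let jB : B ≅ q.obj.snd :=
      (FibCat.fpSnd (FibCat.toSelf 𝒜) (FibCat.toSelf ℬ)).toFunctor.mapIso j
    have hA : 𝒜.p.IsHomLift (𝟙 (𝒜.p.obj A)) jA.hom :=
      @BasedFunctor.preserves_isHomLift _ _ _ _ (FibCat.fpFst (FibCat.toSelf 𝒜) (FibCat.toSelf ℬ))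
        _ _ _ _ (𝟙 _) j.hom hj
    have hB : ℬ.p.IsHomLift (𝟙 (𝒜.p.obj A)) jB.hom :=
      @BasedFunctor.preserves_isHomLift _ _ _ _ (FibCat.fpSnd (FibCat.toSelf 𝒜) (FibCat.toSelf ℬ))
        _ _ _ _ (𝟙 _) j.hom hj
    let a₂ := BasedFunctor.comp a (FibCat.fpSnd _ _)
    let b₂ := BasedFunctor.comp b (FibCat.fpSnd _ _)
    let i₂ : a₂.obj A ≅ b₂.obj B :=
      a₂.toFunctor.mapIso jA ≪≫ q.obj.iso ≪≫ (b₂.toFunctor.mapIso jB).symm
    have hq : 𝒴.p.IsHomLift (𝟙 (𝒜.p.obj A)) q.obj.iso.hom :=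
      fp_iso_isHomLift q (IsHomLift.codomain_eq 𝒜.p (𝟙 (𝒜.p.obj A)) jA.hom)
    have hB' := @IsHomLift.lift_id_inv _ _ _ _ ℬ.p _ _ _ jB hB
    have hi₂ : 𝒴.p.IsHomLift (𝟙 (𝒜.p.obj A)) i₂.hom :=
      homLift_id_comp (BasedFunctor.preserves_isHomLift a₂ _ jA.hom)
        (homLift_id_comp hq (BasedFunctor.preserves_isHomLift b₂ _ jB.inv))
    have hi₁ : 𝒳.p.IsHomLift (𝟙 (𝒜.p.obj A)) p.obj.iso.hom := p.property
    let i : a.obj A ≅ b.obj B := fpIsoMk p.obj.iso i₂ (selfFp_w (𝟙 (𝒜.p.obj A)) hi₁ hi₂)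
    let x : (FibCat.fp a b).obj := fpObj A B i rfl ((fp_isHomLift_iff _ _).2 hi₁)
    let e₁ : (prodFpFst a b).obj x ≅ p := fpIsoMk (Iso.refl A) (Iso.refl B) (by
      change (BasedFunctor.comp a (FibCat.fpFst _ _)).map (𝟙 A) ≫ p.obj.iso.hom =
        p.obj.iso.hom ≫ (BasedFunctor.comp b (FibCat.fpFst _ _)).map (𝟙 B)
      erw [CategoryTheory.Functor.map_id, CategoryTheory.Functor.map_id, Category.id_comp,
        Category.comp_id])
    let e₂ : (prodFpSnd a b).obj x ≅ q := fpIsoMk jA jB (by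
      change a₂.map jA.hom ≫ q.obj.iso.hom =
        (a₂.map jA.hom ≫ q.obj.iso.hom ≫ b₂.map jB.inv) ≫ b₂.map jB.hom
      simp only [Category.assoc]
      rw [← b₂.toFunctor.map_comp, jB.inv_hom_id, b₂.toFunctor.map_id, Category.comp_id])
    refine ⟨x, fpIsoMk e₁ e₂ ?_, (fp_isHomLift_iff _ _).2
      ((fp_isHomLift_iff _ _).2 (IsHomLift.id rfl))⟩
    exact fp_hom_ext rfl rfl

end Groth.Agent.H14Fib
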