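import Groth.Agent.H14Fib.FpMap

/-!
# The symmetry of the fibre product over the base
-/

set_option autoImplicit false
set_option backward.isDefEq.respectTransparency false
set_option backward.isDefEq.respectTransparency.types false

universe v u

open CategoryTheory

namespace Groth.Agent.H14Fib

variable {C : Type u} [Category.{v} C] {𝒳 𝒴 𝒮 : BasedCategory.{v, max u v} C}
  (F : 𝒳 ⥤ᵇ 𝒮) (G : 𝒴 ⥤ᵇ 𝒮)

lemma swap_iso_lift (x : (FibCat.fp F G).obj) :
    𝒮.p.IsHomLift (𝟙 (𝒳.p.obj x.obj.fst)) x.obj.iso.symm.hom :=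
  @IsHomLift.lift_id_inv _ _ _ _ 𝒮.p _ _ _ x.obj.iso x.property

/-- `(x, y, i) ↦ (y, x, i⁻¹)`. -/
def fpSwap : FibCat.fp F G ⥤ᵇ FibCat.fp G F where
  toFunctor :=
    { obj := fun x => fpObj x.obj.snd x.obj.fst x.obj.iso.symm (fp_snd_obj x) (swap_iso_lift F G x)
      map := fun {x y} m => fpHom m.hom.snd m.hom.fst (by
        change G.map m.hom.snd ≫ y.obj.iso.inv = x.obj.iso.inv ≫ F.map m.hom.fst
        rw [Iso.comp_inv_eq, Category.assoc, Iso.eq_inv_comp]
        exact m.hom.w.symm)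
      map_id := fun x => fp_hom_ext rfl rfl
      map_comp := fun m n => fp_hom_ext rfl rfl }
  w := (FibCat.fpSnd F G).w

lemma fpSwap_isEquivOver : FibCat.IsEquivOver (fpSwap F G) :=
  ⟨fpSwap G F, ⟨eqToIso rfl⟩, ⟨eqToIso rfl⟩⟩

lemma fpSwap_fst : BasedFunctor.comp (fpSwap F G) (FibCat.fpFst G F) = FibCat.fpSnd F G := rfl

end Groth.Agent.H14Fib
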