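import Groth.Agent.H14Fib.FpMap

/-!
# Pasting of fibre product squares over the base
-/

set_option autoImplicit false
set_option backward.isDefEq.respectTransparency false
set_option backward.isDefEq.respectTransparency.types false

universe v u

open CategoryTheory CategoryTheory.Functor

namespace Groth.Agent.H14Fib

variable {C : Type u} [Category.{v} C] {𝒰 𝒳 𝒴 𝒵 : BasedCategory.{v, max u v} C}

section Comp

variable (G : 𝒰 ⥤ᵇ 𝒵) (g : 𝒴 ⥤ᵇ 𝒵) (f : 𝒳 ⥤ᵇ 𝒴)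

/-- The isomorphism of the pasted object. -/
def pasteCompIso (p : (FibCat.fp (FibCat.fpSnd G g) f).obj) :
    G.obj p.obj.fst.obj.fst ≅ g.obj (f.obj p.obj.snd) :=
  p.obj.fst.obj.iso ≪≫ g.toFunctor.mapIso p.obj.iso

lemma pasteCompIso_lift (p : (FibCat.fp (FibCat.fpSnd G g) f).obj) :
    𝒵.p.IsHomLift (𝟙 (𝒰.p.obj p.obj.fst.obj.fst)) (pasteCompIso G g f p).hom :=
  homLift_id_comp p.obj.fst.property
    (@BasedFunctor.preserves_isHomLift _ _ _ _ g _ _ _ _ _ _ p.property)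

/-- `(𝒰 ×_𝒵 𝒴) ×_𝒴 𝒳 ⟶ 𝒰 ×_𝒵 𝒳`. -/
def pasteComp : FibCat.fp (FibCat.fpSnd G g) f ⥤ᵇ FibCat.fp G (BasedFunctor.comp f g) where
  toFunctor :=
    { obj := fun p => fpObj (G := BasedFunctor.comp f g) p.obj.fst.obj.fst p.obj.snd
        (pasteCompIso G g f p) rfl (pasteCompIso_lift G g f p)
      map := fun {p q} m => fpHom m.hom.fst.hom.fst m.hom.snd (by
        have h1 : G.map m.hom.fst.hom.fst ≫ q.obj.fst.obj.iso.hom =
            p.obj.fst.obj.iso.hom ≫ g.map m.hom.fst.hom.snd := m.hom.fst.hom.w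
        have h2 : m.hom.fst.hom.snd ≫ q.obj.iso.hom = p.obj.iso.hom ≫ f.map m.hom.snd := m.hom.w
        change G.map m.hom.fst.hom.fst ≫ q.obj.fst.obj.iso.hom ≫ g.map q.obj.iso.hom =
          (p.obj.fst.obj.iso.hom ≫ g.map p.obj.iso.hom) ≫ g.map (f.map m.hom.snd)
        rw [reassoc_of% h1, ← Functor.map_comp, h2, Functor.map_comp, Category.assoc])
      map_id := fun p => fp_hom_ext rfl rfl
      map_comp := fun m n => fp_hom_ext rfl rfl }
  w := rfl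

lemma pasteComp_isEquivOver : FibCat.IsEquivOver (pasteComp G g f) := by
  refine (isEquivOver_iff _).2 ⟨⟨⟨fun {p q} m => ?_⟩, ⟨fun {p q} m n h => ?_⟩⟩, fun z => ?_⟩
  · let s : p.obj.fst.obj.snd ⟶ q.obj.fst.obj.snd :=
      p.obj.iso.hom ≫ f.map m.hom.snd ≫ q.obj.iso.inv
    have hm : G.map m.hom.fst ≫ q.obj.fst.obj.iso.hom ≫ g.map q.obj.iso.hom =
        (p.obj.fst.obj.iso.hom ≫ g.map p.obj.iso.hom) ≫ g.map (f.map m.hom.snd) := m.hom.w
    have hs : G.map m.hom.fst ≫ q.obj.fst.obj.iso.hom = p.obj.fst.obj.iso.hom ≫ g.map s := by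
      rw [← cancel_mono (g.map q.obj.iso.hom), Category.assoc, hm]
      simp [s, ← Functor.map_comp]
    let F₁ : p.obj.fst ⟶ q.obj.fst := fpHom m.hom.fst s hs
    exact ⟨fpHom F₁ m.hom.snd (by
      change s ≫ q.obj.iso.hom = p.obj.iso.hom ≫ f.map m.hom.snd
      simp [s]), fp_hom_ext rfl rfl⟩
  · have h1 : m.hom.fst.hom.fst = n.hom.fst.hom.fst := congrArg (fun t => t.hom.fst) h
    have h2 : m.hom.snd = n.hom.snd := congrArg (fun t => t.hom.snd) h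
    have h3 : m.hom.fst.hom.snd = n.hom.fst.hom.snd := by
      have hm : m.hom.fst.hom.snd ≫ q.obj.iso.hom = p.obj.iso.hom ≫ f.map m.hom.snd := m.hom.w
      have hn : n.hom.fst.hom.snd ≫ q.obj.iso.hom = p.obj.iso.hom ≫ f.map n.hom.snd := n.hom.w
      rw [← cancel_mono q.obj.iso.hom, hm, hn, h2]
    exact fp_hom_ext (fp_hom_ext h1 h3) h2
  · have hx : 𝒳.p.obj z.obj.snd = 𝒰.p.obj z.obj.fst := fp_snd_obj z
    let P : (FibCat.fp G g).obj := fpObj z.obj.fst (f.obj z.obj.snd) z.obj.iso rfl z.property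
    have hI : 𝒴.p.IsHomLift (𝟙 (𝒰.p.obj z.obj.fst)) (𝟙 (f.obj z.obj.snd)) :=
      IsHomLift.id ((f.w_obj _).trans hx)
    let Q : (FibCat.fp (FibCat.fpSnd G g) f).obj := fpObj P z.obj.snd (Iso.refl _) rfl hI
    refine ⟨Q, fpIsoMk (Iso.refl _) (Iso.refl _) ?_, (fp_isHomLift_iff _ _).2 (IsHomLift.id rfl)⟩
    change G.map (𝟙 _) ≫ z.obj.iso.hom = (z.obj.iso.hom ≫ g.map (𝟙 _)) ≫ g.map (f.map (𝟙 _))
    simp
    exact (Category.comp_id _).symm

end Comp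

section Base

variable (g : 𝒵 ⥤ᵇ 𝒴) (f : 𝒳 ⥤ᵇ 𝒴) (G : 𝒰 ⥤ᵇ 𝒵)

/-- The isomorphism of the pasted object. -/
def pasteBaseIso (p : (FibCat.fp G (FibCat.fpFst g f)).obj) :
    g.obj (G.obj p.obj.fst) ≅ f.obj p.obj.snd.obj.snd :=
  g.toFunctor.mapIso p.obj.iso ≪≫ p.obj.snd.obj.iso

lemma pasteBaseIso_lift (p : (FibCat.fp G (FibCat.fpFst g f)).obj) :
    𝒴.p.IsHomLift (𝟙 (𝒰.p.obj p.obj.fst)) (pasteBaseIso g f G p).hom :=
  homLift_id_comp (@BasedFunctor.preserves_isHomLift _ _ _ _ g _ _ _ _ _ _ p.property)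
    (fp_iso_isHomLift p.obj.snd (fp_snd_obj p))

/-- `𝒰 ×_𝒵 (𝒵 ×_𝒴 𝒳) ⟶ 𝒰 ×_𝒴 𝒳`. -/
def pasteBase : FibCat.fp G (FibCat.fpFst g f) ⥤ᵇ FibCat.fp (BasedFunctor.comp G g) f where
  toFunctor :=
    { obj := fun p => fpObj (F := BasedFunctor.comp G g) p.obj.fst p.obj.snd.obj.snd
        (pasteBaseIso g f G p) rfl (pasteBaseIso_lift g f G p)
      map := fun {p q} m => fpHom m.hom.fst m.hom.snd.hom.snd (by
        have h1 : G.map m.hom.fst ≫ q.obj.iso.hom = p.obj.iso.hom ≫ m.hom.snd.hom.fst := m.hom.w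
        have h2 : g.map m.hom.snd.hom.fst ≫ q.obj.snd.obj.iso.hom =
            p.obj.snd.obj.iso.hom ≫ f.map m.hom.snd.hom.snd := m.hom.snd.hom.w
        change g.map (G.map m.hom.fst) ≫ g.map q.obj.iso.hom ≫ q.obj.snd.obj.iso.hom =
          (g.map p.obj.iso.hom ≫ p.obj.snd.obj.iso.hom) ≫ f.map m.hom.snd.hom.snd
        rw [← Functor.map_comp_assoc, h1, Functor.map_comp_assoc, h2, Category.assoc])
      map_id := fun p => fp_hom_ext rfl rfl
      map_comp := fun m n => fp_hom_ext rfl rfl }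
  w := rfl

lemma pasteBase_isEquivOver : FibCat.IsEquivOver (pasteBase g f G) := by
  refine (isEquivOver_iff _).2 ⟨⟨⟨fun {p q} m => ?_⟩, ⟨fun {p q} m n h => ?_⟩⟩, fun z => ?_⟩
  · let s : p.obj.snd.obj.fst ⟶ q.obj.snd.obj.fst :=
      p.obj.iso.inv ≫ G.map m.hom.fst ≫ q.obj.iso.hom
    have hm : g.map (G.map m.hom.fst) ≫ g.map q.obj.iso.hom ≫ q.obj.snd.obj.iso.hom =
        (g.map p.obj.iso.hom ≫ p.obj.snd.obj.iso.hom) ≫ f.map m.hom.snd := m.hom.w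
    have hs : g.map s ≫ q.obj.snd.obj.iso.hom = p.obj.snd.obj.iso.hom ≫ f.map m.hom.snd := by
      rw [← cancel_epi (g.map p.obj.iso.hom), ← Category.assoc (g.map p.obj.iso.hom)
        p.obj.snd.obj.iso.hom, ← hm]
      rw [← Functor.map_comp_assoc, Iso.hom_inv_id_assoc, Functor.map_comp, Category.assoc]
    let F₂ : p.obj.snd ⟶ q.obj.snd := fpHom s m.hom.snd hs
    exact ⟨fpHom m.hom.fst F₂ (by
      change G.map m.hom.fst ≫ q.obj.iso.hom = p.obj.iso.hom ≫ s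
      simp [s]), fp_hom_ext rfl rfl⟩
  · have h1 : m.hom.fst = n.hom.fst := congrArg (fun t => t.hom.fst) h
    have h2 : m.hom.snd.hom.snd = n.hom.snd.hom.snd := congrArg (fun t => t.hom.snd) h
    have h3 : m.hom.snd.hom.fst = n.hom.snd.hom.fst := by
      have hm : G.map m.hom.fst ≫ q.obj.iso.hom = p.obj.iso.hom ≫ m.hom.snd.hom.fst := m.hom.w
      have hn : G.map n.hom.fst ≫ q.obj.iso.hom = p.obj.iso.hom ≫ n.hom.snd.hom.fst := n.hom.w
      rw [← cancel_epi p.obj.iso.hom, ← hm, ← hn, h1]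
    exact fp_hom_ext h1 (fp_hom_ext h3 h2)
  · have hG : 𝒵.p.obj (G.obj z.obj.fst) = 𝒰.p.obj z.obj.fst := G.w_obj _
    let P : (FibCat.fp g f).obj := fpObj (G.obj z.obj.fst) z.obj.snd z.obj.iso hG z.property
    let Q : (FibCat.fp G (FibCat.fpFst g f)).obj :=
      fpObj z.obj.fst P (Iso.refl _) rfl (IsHomLift.id hG)
    refine ⟨Q, fpIsoMk (Iso.refl _) (Iso.refl _) ?_, (fp_isHomLift_iff _ _).2 (IsHomLift.id rfl)⟩
    change g.map (G.map (𝟙 _)) ≫ z.obj.iso.hom = (g.map (𝟙 _) ≫ z.obj.iso.hom) ≫ f.map (𝟙 _)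
    simp

end Base

end Groth.Agent.H14Fib
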