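import Groth.Agent.H14Fib.FpMap
import Groth.Agent.H14Stk.Basic

/-!
# The diagonal of a base change is a base change of the diagonal
-/

set_option autoImplicit false
set_option backward.isDefEq.respectTransparency false
set_option backward.isDefEq.respectTransparency.types false

universe v u

open CategoryTheory

namespace Groth.Agent.H14Fib

variable {C : Type u} [Category.{v} C] {𝒳 𝒴 𝒵 : BasedCategory.{v, max u v} C}
  (g : 𝒵 ⥤ᵇ 𝒴) (f : 𝒳 ⥤ᵇ 𝒴)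

local notation "pr" => FibCat.fpFst g f

/-- The identification in `𝒴` attached to a pair of objects with identified first components. -/
def basePairIso (q : (FibCat.fp pr pr).obj) :
    f.obj q.obj.fst.obj.snd ≅ f.obj q.obj.snd.obj.snd :=
  q.obj.fst.obj.iso.symm ≪≫ g.toFunctor.mapIso q.obj.iso ≪≫ q.obj.snd.obj.iso

/-- The map `(𝒵 ×_𝒴 𝒳) ×_𝒵 (𝒵 ×_𝒴 𝒳) ⟶ 𝒳 ×_𝒴 𝒳`. -/
def basePair : FibCat.fp pr pr ⥤ᵇ FibCat.fp f f :=
  FibCat.fpLift (BasedFunctor.comp (FibCat.fpFst pr pr) (FibCat.fpSnd g f))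
    (BasedFunctor.comp (FibCat.fpSnd pr pr) (FibCat.fpSnd g f))
    (H14Stk.mkIso (basePairIso g f)
      (fun {q q'} m => by
        have hj : m.hom.fst.hom.fst ≫ q'.obj.iso.hom = q.obj.iso.hom ≫ m.hom.snd.hom.fst := m.hom.w
        have h1 : g.map m.hom.fst.hom.fst ≫ q'.obj.fst.obj.iso.hom =
            q.obj.fst.obj.iso.hom ≫ f.map m.hom.fst.hom.snd := m.hom.fst.hom.w
        have h2 : g.map m.hom.snd.hom.fst ≫ q'.obj.snd.obj.iso.hom =
            q.obj.snd.obj.iso.hom ≫ f.map m.hom.snd.hom.snd := m.hom.snd.hom.w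
        change f.map m.hom.fst.hom.snd ≫ q'.obj.fst.obj.iso.inv ≫ g.map q'.obj.iso.hom ≫
            q'.obj.snd.obj.iso.hom =
          (q.obj.fst.obj.iso.inv ≫ g.map q.obj.iso.hom ≫ q.obj.snd.obj.iso.hom) ≫
            f.map m.hom.snd.hom.snd
        rw [← cancel_epi q.obj.fst.obj.iso.hom, ← reassoc_of% h1]
        erw [Iso.hom_inv_id_assoc]
        rw [← g.toFunctor.map_comp_assoc, hj, g.toFunctor.map_comp_assoc, h2]
        simp only [Category.assoc, Iso.hom_inv_id_assoc])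
      (fun q => by
        have h1 : 𝒴.p.IsHomLift (𝟙 (𝒵.p.obj q.obj.fst.obj.fst)) q.obj.fst.obj.iso.hom :=
          q.obj.fst.property
        have h2 : 𝒴.p.IsHomLift (𝟙 (𝒵.p.obj q.obj.fst.obj.fst)) q.obj.snd.obj.iso.hom :=
          fp_iso_isHomLift q.obj.snd (fp_snd_obj q)
        have hj : 𝒵.p.IsHomLift (𝟙 (𝒵.p.obj q.obj.fst.obj.fst)) q.obj.iso.hom := q.property
        exact homLift_id_comp (@IsHomLift.lift_id_inv _ _ _ _ 𝒴.p _ _ _ q.obj.fst.obj.iso h1)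
          (homLift_id_comp (@BasedFunctor.preserves_isHomLift _ _ _ _ g _ _ _ _ (𝟙 _) q.obj.iso.hom hj) h2)))

/-- The component of the base change square. -/
def diagBaseIso (z : (FibCat.fp g f).obj) :
    (basePair g f).obj ((FibCat.diag pr).obj z) ≅ (FibCat.diag f).obj z.obj.snd :=
  fpIsoMk (Iso.refl _) (Iso.refl _) (by
    change f.map (𝟙 _) ≫ 𝟙 _ = (z.obj.iso.inv ≫ g.map (𝟙 _) ≫ z.obj.iso.hom) ≫ f.map (𝟙 _)
    rw [f.toFunctor.map_id, g.toFunctor.map_id, Category.comp_id, Category.comp_id]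
    erw [Category.id_comp, z.obj.iso.inv_hom_id])

/-- `𝒵 ×_𝒴 𝒳` as the base change of the diagonal of `f`. -/
def diagBase : FibCat.fp g f ⥤ᵇ FibCat.fp (basePair g f) (FibCat.diag f) :=
  FibCat.fpLift (FibCat.diag pr) (FibCat.fpSnd g f)
    (H14Stk.mkIso (diagBaseIso g f)
      (fun {_ _} m => fp_hom_ext ((Category.comp_id _).trans (Category.id_comp _).symm)
        ((Category.comp_id _).trans (Category.id_comp _).symm))
      (fun z => (fp_isHomLift_iff _ _).2 (IsHomLift.id (fp_snd_obj z))))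

lemma diagBase_isEquivOver : FibCat.IsEquivOver (diagBase g f) := by
  refine (isEquivOver_iff _).2 ⟨⟨⟨fun {x y} m => ?_⟩, ⟨fun {x y} m n h => ?_⟩⟩, fun z => ?_⟩
  · let φ := m.hom.fst
    have h0 : φ.hom.fst.hom.fst ≫ 𝟙 _ = 𝟙 _ ≫ φ.hom.snd.hom.fst := φ.hom.w
    have hw := m.hom.w
    have h1 : φ.hom.fst.hom.snd ≫ 𝟙 _ = 𝟙 _ ≫ m.hom.snd := congrArg (fun t => t.hom.fst) hw
    have h2 : φ.hom.snd.hom.snd ≫ 𝟙 _ = 𝟙 _ ≫ m.hom.snd := congrArg (fun t => t.hom.snd) hw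
    simp only [Category.comp_id, Category.id_comp] at h0 h1 h2
    refine ⟨φ.hom.fst, fp_hom_ext (fp_hom_ext rfl ?_) h1⟩
    exact fp_hom_ext h0 (h1.trans h2.symm)
  · exact congrArg (fun t => t.hom.fst.hom.fst) h
  · obtain ⟨⟨q, x, k⟩, hk⟩ := z
    let k₁ : q.obj.fst.obj.snd ≅ x := (FibCat.fpFst f f).toFunctor.mapIso k
    let k₂ : q.obj.snd.obj.snd ≅ x := (FibCat.fpSnd f f).toFunctor.mapIso k
    have hk₁ : 𝒳.p.IsHomLift (𝟙 (𝒵.p.obj q.obj.fst.obj.fst)) k₁.hom :=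
      @BasedFunctor.preserves_isHomLift _ _ _ _ (FibCat.fpFst f f) _ _ _ _ (𝟙 _) k.hom hk
    have hkw : f.map k₁.hom ≫ 𝟙 _ =
        (q.obj.fst.obj.iso.inv ≫ g.map q.obj.iso.hom ≫ q.obj.snd.obj.iso.hom) ≫ f.map k₂.hom :=
      k.hom.hom.w
    erw [Category.comp_id] at hkw
    let c : q.obj.fst ≅ q.obj.snd := fpIsoMk q.obj.iso (k₁ ≪≫ k₂.symm) (by
      change g.map q.obj.iso.hom ≫ q.obj.snd.obj.iso.hom =
        q.obj.fst.obj.iso.hom ≫ f.map (k₁.hom ≫ k₂.inv)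
      rw [f.toFunctor.map_comp, hkw]
      simp only [Category.assoc, Iso.hom_inv_id_assoc]
      rw [← f.toFunctor.map_comp, k₂.hom_inv_id, f.toFunctor.map_id, Category.comp_id])
    have hjw : q.obj.iso.hom = c.hom.hom.fst := rfl
    let e₀ : (FibCat.diag pr).obj q.obj.fst ≅ q := fpIsoMk (Iso.refl _) c (by
      change 𝟙 _ ≫ q.obj.iso.hom = 𝟙 _ ≫ q.obj.iso.hom
      rfl)
    refine ⟨q.obj.fst, fpIsoMk e₀ k₁ ?_, (fp_isHomLift_iff _ _).2
      ((fp_isHomLift_iff _ _).2 (IsHomLift.id rfl))⟩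
    refine fp_hom_ext ?_ ?_
    · change 𝟙 _ ≫ k₁.hom = 𝟙 _ ≫ k₁.hom
      rfl
    · change (k₁.hom ≫ k₂.inv) ≫ k₂.hom = 𝟙 _ ≫ k₁.hom
      simp

end Groth.Agent.H14Fib
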