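import Groth.Agent.H14Fib.FpMap
import Groth.Agent.H14Stk.Basic

/-!
# The magic square: `𝒜 ×_𝒳 ℬ` as a base change of a diagonal
-/

set_option autoImplicit false
set_option backward.isDefEq.respectTransparency false
set_option backward.isDefEq.respectTransparency.types false

universe v u

open CategoryTheory

namespace Groth.Agent.H14Fib

variable {C : Type u} [Category.{v} C] {𝒜 ℬ 𝒳 𝒮 : BasedCategory.{v, max u v} C}
  (F : 𝒜 ⥤ᵇ 𝒳) (G : ℬ ⥤ᵇ 𝒳) (H : 𝒳 ⥤ᵇ 𝒮)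

/-- The map `𝒜 ×_𝒮 ℬ ⟶ 𝒳 ×_𝒮 𝒳`. -/
def pairMap : FibCat.fp (BasedFunctor.comp F H) (BasedFunctor.comp G H) ⥤ᵇ FibCat.fp H H :=
  fpMap (F' := BasedFunctor.comp F H) (G' := BasedFunctor.comp G H) (F := H) (G := H)
    F G (BasedFunctor.id 𝒮) (Iso.refl _) (Iso.refl _)

/-- Forget the identification over `𝒳` down to `𝒮`. -/
def fpDown : FibCat.fp F G ⥤ᵇ FibCat.fp (BasedFunctor.comp F H) (BasedFunctor.comp G H) :=
  FibCat.fpLift (F := BasedFunctor.comp F H) (G := BasedFunctor.comp G H) (FibCat.fpFst F G)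
    (FibCat.fpSnd F G) ((H14Stk.post (FibCat.fp F G) H).mapIso (FibCat.fpIso F G))

/-- The component of the 2-isomorphism of the magic square. -/
def magicIso (x : (FibCat.fp F G).obj) :
    (pairMap F G H).obj ((fpDown F G H).obj x) ≅ (FibCat.diag H).obj (F.obj x.obj.fst) :=
  fpIsoMk (Iso.refl _) x.obj.iso.symm (by
    change H.map (𝟙 _) ≫ 𝟙 _ = (𝟙 _ ≫ H.map x.obj.iso.hom ≫ 𝟙 _) ≫ H.map x.obj.iso.inv
    rw [H.toFunctor.map_id]
    simp only [Category.id_comp, Category.comp_id]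
    erw [← H.toFunctor.map_comp, x.obj.iso.hom_inv_id, H.toFunctor.map_id])

/-- `𝒜 ×_𝒳 ℬ ⟶ (𝒜 ×_𝒮 ℬ) ×_{𝒳 ×_𝒮 𝒳} 𝒳`. -/
def magicFun : FibCat.fp F G ⥤ᵇ FibCat.fp (pairMap F G H) (FibCat.diag H) :=
  FibCat.fpLift (fpDown F G H) (BasedFunctor.comp (FibCat.fpFst F G) F)
    (H14Stk.mkIso (magicIso F G H)
      (fun {x y} m => fp_hom_ext
        ((Category.comp_id _).trans (Category.id_comp _).symm)
        (by
          change G.map m.hom.snd ≫ y.obj.iso.inv = x.obj.iso.inv ≫ F.map m.hom.fst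
          rw [Iso.comp_inv_eq, Category.assoc, Iso.eq_inv_comp]
          exact m.hom.w.symm))
      (fun x => (fp_isHomLift_iff _ _).2 (IsHomLift.id (F.w_obj x.obj.fst))))

lemma magicFun_isEquivOver : FibCat.IsEquivOver (magicFun F G H) := by
  refine (isEquivOver_iff _).2 ⟨⟨⟨fun {x y} m => ?_⟩, ⟨fun {x y} m n h => ?_⟩⟩, fun z => ?_⟩
  · have hw : (pairMap F G H).map m.hom.fst ≫ (magicIso F G H y).hom =
        (magicIso F G H x).hom ≫ (FibCat.diag H).map m.hom.snd := m.hom.w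
    have h1 : F.map m.hom.fst.hom.fst ≫ 𝟙 _ = 𝟙 _ ≫ m.hom.snd := congrArg (fun t => t.hom.fst) hw
    have h2 : G.map m.hom.fst.hom.snd ≫ y.obj.iso.inv = x.obj.iso.inv ≫ m.hom.snd :=
      congrArg (fun t => t.hom.snd) hw
    have h1' : F.map m.hom.fst.hom.fst = m.hom.snd :=
      (Category.comp_id _).symm.trans (h1.trans (Category.id_comp _))
    refine ⟨fpHom m.hom.fst.hom.fst m.hom.fst.hom.snd ?_, fp_hom_ext (fp_hom_ext rfl rfl) h1'⟩
    rw [Iso.comp_inv_eq, Category.assoc, Iso.eq_inv_comp] at h2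
    rw [h1']
    exact h2.symm
  · exact fp_hom_ext (congrArg (fun t => t.hom.fst.hom.fst) h)
      (congrArg (fun t => t.hom.fst.hom.snd) h)
  · obtain ⟨⟨q, c, j⟩, hj⟩ := z
    let a := q.obj.fst
    let b := q.obj.snd
    let j₁ : F.obj a ≅ c := (FibCat.fpFst H H).toFunctor.mapIso j
    let j₂ : G.obj b ≅ c := (FibCat.fpSnd H H).toFunctor.mapIso j
    have hj₁ : 𝒳.p.IsHomLift (𝟙 (𝒜.p.obj a)) j₁.hom :=
      @BasedFunctor.preserves_isHomLift _ _ _ _ (FibCat.fpFst H H) _ _ _ _ (𝟙 _) j.hom hj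
    have hj₂ : 𝒳.p.IsHomLift (𝟙 (𝒜.p.obj a)) j₂.hom :=
      @BasedFunctor.preserves_isHomLift _ _ _ _ (FibCat.fpSnd H H) _ _ _ _ (𝟙 _) j.hom hj
    have hj₂' := @IsHomLift.lift_id_inv _ _ _ _ 𝒳.p _ _ _ j₂ hj₂
    let x : (FibCat.fp F G).obj := fpObj a b (j₁ ≪≫ j₂.symm) rfl (homLift_id_comp hj₁ hj₂')
    have hq : H.map j₁.hom = q.obj.iso.hom ≫ H.map j₂.hom := by
      have hw : H.map j₁.hom ≫ 𝟙 _ = (𝟙 _ ≫ q.obj.iso.hom ≫ 𝟙 _) ≫ H.map j₂.hom := j.hom.hom.w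
      erw [Category.comp_id, Category.id_comp, Category.comp_id] at hw
      exact hw
    let e₀ : ((fpDown F G H).obj x) ≅ q := fpIsoMk (Iso.refl a) (Iso.refl b) (by
      change H.map (F.map (𝟙 a)) ≫ q.obj.iso.hom = H.map (j₁.hom ≫ j₂.inv) ≫ H.map (G.map (𝟙 b))
      have h3 : H.map j₂.hom ≫ H.map j₂.inv = 𝟙 _ := by
        rw [← H.toFunctor.map_comp, j₂.hom_inv_id, H.toFunctor.map_id]
      erw [H.toFunctor.map_comp, hq, F.toFunctor.map_id, G.toFunctor.map_id, H.toFunctor.map_id,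
        H.toFunctor.map_id, Category.comp_id, Category.assoc, h3, Category.comp_id, Category.id_comp])
    refine ⟨x, fpIsoMk e₀ j₁ ?_, (fp_isHomLift_iff _ _).2
      ((fp_isHomLift_iff _ _).2 (IsHomLift.id rfl))⟩
    refine fp_hom_ext ?_ ?_
    · change F.map (𝟙 a) ≫ j₁.hom = 𝟙 _ ≫ j₁.hom
      rw [F.toFunctor.map_id]
    · change G.map (𝟙 b) ≫ j₂.hom = (j₂.hom ≫ j₁.inv) ≫ j₁.hom
      rw [G.toFunctor.map_id, Category.assoc, j₁.inv_hom_id, Category.comp_id, Category.id_comp]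

end Groth.Agent.H14Fib
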