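import Groth.Prelude.Def_W4stkcategoriessitesFib

/-!
# The functor between categorical pullbacks induced by a morphism of cospans
-/

set_option autoImplicit false
set_option backward.isDefEq.respectTransparency false
set_option backward.isDefEq.respectTransparency.types false

universe v u

open CategoryTheory CategoryTheory.Limits CategoryTheory.Functor

namespace Groth.Agent.H14Fib

variable {X Y Z A B C : Type u} [Category.{v} X] [Category.{v} Y] [Category.{v} Z] [Category.{v} A]
  [Category.{v} B] [Category.{v} C] {H : X ⥤ Z} {I : Y ⥤ Z} {F : A ⥤ C} {G : B ⥤ C}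
  (ψ : CatCospanTransform H I F G)

lemma catPbMap_iso (x : CategoricalPullback H I) :
    ((FibCat.categoricalPullbackMap ψ).obj x).iso.hom =
      ψ.squareLeft.iso.inv.app x.fst ≫ ψ.base.map x.iso.hom ≫ ψ.squareRight.iso.hom.app x.snd := by
  simp [FibCat.categoricalPullbackMap]; rfl

instance catPbMap_faithful [ψ.left.Faithful] [ψ.right.Faithful] :
    (FibCat.categoricalPullbackMap ψ).Faithful :=
  ⟨fun {_ _} _ _ h => CategoricalPullback.hom_ext
    (ψ.left.map_injective (congrArg CategoricalPullback.Hom.fst h))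
    (ψ.right.map_injective (congrArg CategoricalPullback.Hom.snd h))⟩

lemma catPbMap_full [ψ.left.Full] [ψ.right.Full] [ψ.base.Faithful] :
    (FibCat.categoricalPullbackMap ψ).Full := by
  refine ⟨fun {x y} m => ?_⟩
  let a : x.fst ⟶ y.fst := ψ.left.preimage m.fst
  let b : x.snd ⟶ y.snd := ψ.right.preimage m.snd
  have hw : F.map m.fst ≫ ((FibCat.categoricalPullbackMap ψ).obj y).iso.hom =
      ((FibCat.categoricalPullbackMap ψ).obj x).iso.hom ≫ G.map m.snd := m.w
  have hl : ψ.base.map (H.map a) ≫ ψ.squareLeft.iso.hom.app y.fst =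
      ψ.squareLeft.iso.hom.app x.fst ≫ F.map (ψ.left.map a) :=
    ψ.squareLeft.iso.hom.naturality a
  have hr : ψ.base.map (I.map b) ≫ ψ.squareRight.iso.hom.app y.snd =
      ψ.squareRight.iso.hom.app x.snd ≫ G.map (ψ.right.map b) :=
    ψ.squareRight.iso.hom.naturality b
  rw [catPbMap_iso, catPbMap_iso] at hw
  rw [ψ.left.map_preimage] at hl
  rw [ψ.right.map_preimage] at hr
  have hab : H.map a ≫ y.iso.hom = x.iso.hom ≫ I.map b := by
    apply ψ.base.map_injective
    rw [← cancel_mono (ψ.squareRight.iso.hom.app y.snd), Functor.map_comp, Functor.map_comp,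
      Category.assoc, Category.assoc, hr]
    have h0 : F.map m.fst ≫ ψ.squareLeft.iso.inv.app y.fst ≫ ψ.base.map y.iso.hom ≫
        ψ.squareRight.iso.hom.app y.snd = ψ.squareLeft.iso.inv.app x.fst ≫ ψ.base.map x.iso.hom ≫
        ψ.squareRight.iso.hom.app x.snd ≫ G.map m.snd := by
      simpa only [Category.assoc] using hw
    have hl' : ψ.base.map (H.map a) =
        ψ.squareLeft.iso.hom.app x.fst ≫ F.map m.fst ≫ ψ.squareLeft.iso.inv.app y.fst := by
      rw [← Category.assoc, ← hl, Category.assoc, Iso.hom_inv_id_app]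
      exact (Category.comp_id _).symm
    rw [hl', Category.assoc, Category.assoc, h0]
    exact Iso.hom_inv_id_app_assoc _ _ _
  exact ⟨⟨a, b, hab⟩, CategoricalPullback.hom_ext (ψ.left.map_preimage _) (ψ.right.map_preimage _)⟩

lemma catPbMap_isEquivalence [ψ.left.IsEquivalence] [ψ.right.IsEquivalence] [ψ.base.Full]
    [ψ.base.Faithful] : (FibCat.categoricalPullbackMap ψ).IsEquivalence := by
  have := catPbMap_full ψ
  refine { essSurj := ⟨fun z => ?_⟩ }
  let e₁ := ψ.left.objObjPreimageIso z.fst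
  let e₂ := ψ.right.objObjPreimageIso z.snd
  let x := ψ.left.objPreimage z.fst
  let y := ψ.right.objPreimage z.snd
  let i : ψ.base.obj (H.obj x) ≅ ψ.base.obj (I.obj y) :=
    ψ.squareLeft.iso.app x ≪≫ F.mapIso e₁ ≪≫ z.iso ≪≫ (G.mapIso e₂).symm ≪≫
      (ψ.squareRight.iso.app y).symm
  let P : CategoricalPullback H I := ⟨x, y, ψ.base.preimageIso i⟩
  refine ⟨P, ⟨CategoricalPullback.mkIso e₁ e₂ ?_⟩⟩
  rw [catPbMap_iso]
  change F.map e₁.hom ≫ z.iso.hom =
    (ψ.squareLeft.iso.inv.app x ≫ ψ.base.map (ψ.base.preimage i.hom) ≫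
      ψ.squareRight.iso.hom.app y) ≫ G.map e₂.hom
  rw [ψ.base.map_preimage]
  have c₁ : ψ.squareLeft.iso.inv.app x ≫ (ψ.squareLeft.iso.app x).hom = 𝟙 _ :=
    ψ.squareLeft.iso.inv_hom_id_app x
  simp only [i, Iso.trans_hom, Iso.symm_hom, Functor.mapIso_hom, Functor.mapIso_inv,
    Category.assoc]
  rw [reassoc_of% c₁]
  have c₂ : (ψ.squareRight.iso.app y).inv ≫ ψ.squareRight.iso.hom.app y ≫ G.map e₂.hom =
      G.map e₂.hom := ψ.squareRight.iso.inv_hom_id_app_assoc y _
  rw [c₂, ← Functor.map_comp, e₂.inv_hom_id, CategoryTheory.Functor.map_id]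
  exact (congrArg (F.map e₁.hom ≫ ·) (Category.comp_id _)).symm

end Groth.Agent.H14Fib
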