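import Groth.Prelude.Def_W4stkcategoriessitesFib
import Groth.Agent.H14Fib.Basic
import Mathlib.CategoryTheory.Adjunction.Basic

/-!
# Factorisation of a morphism of fibred categories through the category of arrows `y ⟶ F x`
-/

set_option autoImplicit false
set_option backward.isDefEq.respectTransparency false
set_option backward.isDefEq.respectTransparency.types false

universe v u

open CategoryTheory CategoryTheory.Functor

noncomputable section

namespace Groth.Agent.H14Fib.Factor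

variable {C : Type u} [Category.{v} C] {𝒳 𝒴 : BasedCategory.{v, max u v} C} (F : 𝒳 ⥤ᵇ 𝒴)

/-- A vertical arrow into the image of an object. -/
structure Obj : Type (max u v) where
  /-- the source object -/
  x : 𝒳.obj
  /-- the target object -/
  y : 𝒴.obj
  /-- the arrow -/
  f : y ⟶ F.obj x
  vert : 𝒴.p.IsHomLift (𝟙 (𝒳.p.obj x)) f

variable {F}

/-- A morphism of arrows. -/
@[ext]
structure Hom (a b : Obj F) : Type v where
  /-- the component in the source -/
  top : a.x ⟶ b.x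
  /-- the component in the target -/
  bot : a.y ⟶ b.y
  w : bot ≫ b.f = a.f ≫ F.map top

instance : Category (Obj F) where
  Hom := Hom
  id a := ⟨𝟙 a.x, 𝟙 a.y, by simp⟩
  comp m n := ⟨m.top ≫ n.top, m.bot ≫ n.bot, by rw [Category.assoc, n.w, reassoc_of% m.w, Functor.map_comp]⟩
  id_comp m := Hom.ext (Category.id_comp _) (Category.id_comp _)
  comp_id m := Hom.ext (Category.comp_id _) (Category.comp_id _)
  assoc m n o := Hom.ext (Category.assoc _ _ _) (Category.assoc _ _ _)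

@[ext] lemma hom_ext {a b : Obj F} {m n : a ⟶ b} (h₁ : m.top = n.top) (h₂ : m.bot = n.bot) : m = n :=
  Hom.ext h₁ h₂

variable (F) in
/-- The category of arrows, over the base. -/
abbrev cat : BasedCategory.{v, max u v} C where
  obj := Obj F
  category := inferInstance
  p := { obj := fun a => 𝒳.p.obj a.x
         map := fun {a b} (m : Hom a b) => 𝒳.p.map m.top
         map_id := fun a => 𝒳.p.map_id a.x
         map_comp := fun {a b c} (m : Hom a b) (n : Hom b c) => 𝒳.p.map_comp m.top n.top }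

lemma obj_eq (a : Obj F) : 𝒴.p.obj a.y = 𝒳.p.obj a.x :=
  @IsHomLift.domain_eq _ _ _ _ 𝒴.p _ _ _ _ _ _ a.vert

lemma map_bot {a b : Obj F} (m : a ⟶ b) :
    𝒴.p.map m.bot = eqToHom (obj_eq a) ≫ 𝒳.p.map m.top ≫ eqToHom (obj_eq b).symm := by
  have e : ∀ a : Obj F, 𝒴.p.map a.f = eqToHom ((obj_eq a).trans (F.w_obj a.x).symm) := fun a => by
    have := @IsHomLift.fac' _ _ _ _ 𝒴.p _ _ _ _ _ _ a.vert
    rw [this]; simp
  have hF : 𝒴.p.map (F.map m.top) = eqToHom (F.w_obj a.x) ≫ 𝒳.p.map m.top ≫ eqToHom (F.w_obj b.x).symm :=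
    Functor.congr_hom F.w m.top
  have h := congrArg 𝒴.p.map m.w
  rw [Functor.map_comp, Functor.map_comp, e, e, hF] at h
  rw [← cancel_mono (eqToHom ((obj_eq b).trans (F.w_obj b.x).symm)), h]
  simp

lemma homLift_top {a b : Obj F} (m : a ⟶ b) {R S : C} (g : R ⟶ S) (h : (cat F).p.IsHomLift g m) :
    𝒳.p.IsHomLift g m.top := by
  subst_hom_lift (cat F).p g m
  exact IsHomLift.map 𝒳.p m.top

lemma homLift_bot {a b : Obj F} (m : a ⟶ b) {R S : C} (g : R ⟶ S) (h : (cat F).p.IsHomLift g m) :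
    𝒴.p.IsHomLift g m.bot := by
  subst_hom_lift (cat F).p g m
  exact IsHomLift.of_fac' 𝒴.p _ _ (obj_eq _) (obj_eq _) (map_bot m)

lemma homLift_of_top {a b : Obj F} (m : a ⟶ b) {R S : C} (g : R ⟶ S) (h : 𝒳.p.IsHomLift g m.top) :
    (cat F).p.IsHomLift g m := by
  subst_hom_lift 𝒳.p g m.top
  exact IsHomLift.map (cat F).p m

variable (hF : FibCat.PreservesStronglyCartesian F)

include hF in
lemma sc_of {a b : Obj F} (m : a ⟶ b) {R S : C} (g : R ⟶ S) (h₁ : 𝒳.p.IsStronglyCartesian g m.top)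
    (h₂ : 𝒴.p.IsStronglyCartesian g m.bot) : (cat F).p.IsStronglyCartesian g m := by
  refine { toIsHomLift := homLift_of_top m g h₁.toIsHomLift, universal_property' := fun {a'} k n hn => ?_ }
  have hnt := homLift_top n (k ≫ g) hn
  have hnb := homLift_bot n (k ≫ g) hn
  obtain ⟨χ, ⟨hχ, hχe⟩, hχu⟩ := IsStronglyCartesian.universal_property 𝒳.p g m.top k _ rfl n.top
  obtain ⟨ω, ⟨hω, hωe⟩, hωu⟩ := IsStronglyCartesian.universal_property 𝒴.p g m.bot k _ rfl n.bot
  have hχ' := @BasedFunctor.preserves_isHomLift _ _ _ _ F _ _ _ _ k χ hχ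
  have := hF g m.top h₁
  have ha : 𝒳.p.obj a.x = R := @IsHomLift.domain_eq _ _ _ _ 𝒳.p _ _ _ _ g m.top h₁.toIsHomLift
  have hw : ω ≫ a.f = a'.f ≫ F.map χ := by
    have h₃ : 𝒴.p.IsHomLift (𝟙 R) a.f := ha ▸ a.vert
    have h₄ : 𝒴.p.IsHomLift k (ω ≫ a.f) := IsHomLift.comp_lift_id_right' 𝒴.p k ω R a.f
    have h₅ : 𝒴.p.IsHomLift k (a'.f ≫ F.map χ) :=
      haveI := a'.vert
      IsHomLift.comp_lift_id_left' 𝒴.p (𝒳.p.obj a'.x) a'.f k (F.map χ)
    refine IsStronglyCartesian.ext 𝒴.p g (F.map m.top) k ?_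
    rw [Category.assoc, Category.assoc, ← m.w, reassoc_of% hωe, n.w, ← F.toFunctor.map_comp, hχe]
  refine ⟨⟨χ, ω, hw⟩, ⟨homLift_of_top _ k hχ, hom_ext hχe hωe⟩, ?_⟩
  rintro t ⟨ht, hte⟩
  exact hom_ext (hχu _ ⟨homLift_top t k ht, congrArg Hom.top hte⟩)
    (hωu _ ⟨homLift_bot t k ht, congrArg Hom.bot hte⟩)

variable [𝒳.p.IsFibered] [𝒴.p.IsFibered]

include hF in
lemma exists_cart (b : Obj F) {R : C} (g : R ⟶ 𝒳.p.obj b.x) : ∃ (a : Obj F) (m : a ⟶ b),
    𝒳.p.IsStronglyCartesian g m.top ∧ 𝒴.p.IsStronglyCartesian g m.bot := by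
  obtain ⟨x', t, ht⟩ := isFibered_exists_sc 𝒳.p (a := b.x) rfl g
  obtain ⟨y', s, hs⟩ := isFibered_exists_sc 𝒴.p (obj_eq b) g
  have := hF g t ht
  have := b.vert
  have h1 : 𝒴.p.IsHomLift g (s ≫ b.f) := IsHomLift.comp_lift_id_right' 𝒴.p g s (𝒳.p.obj b.x) b.f
  obtain ⟨f', ⟨hf', hfe⟩, -⟩ := IsStronglyCartesian.universal_property 𝒴.p g (F.map t) (𝟙 R) g
    (Category.id_comp g).symm (s ≫ b.f)
  have hx : 𝒳.p.obj x' = R := IsHomLift.domain_eq 𝒳.p g t
  exact ⟨⟨x', y', f', hx.symm ▸ hf'⟩, ⟨t, s, hfe.symm⟩, ht, hs⟩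

include hF in
lemma isFibered_cat : (cat F).p.IsFibered :=
  IsFibered.of_exists_isStronglyCartesian fun b R g => by
    obtain ⟨a, m, h1, h2⟩ := exists_cart hF b g
    exact ⟨a, m, sc_of hF m g h1 h2⟩

include hF in
lemma sc_comps {a b : Obj F} (m : a ⟶ b) {R S : C} (g : R ⟶ S) (h : (cat F).p.IsStronglyCartesian g m) :
    𝒳.p.IsStronglyCartesian g m.top ∧ 𝒴.p.IsStronglyCartesian g m.bot := by
  have hS : 𝒳.p.obj b.x = S := @IsHomLift.codomain_eq _ _ _ _ (cat F).p _ _ _ _ g m h.toIsHomLift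
  subst hS
  obtain ⟨a', c, h1, h2⟩ := exists_cart hF b g
  have hc := sc_of hF c g h1 h2
  have := h.toIsHomLift
  obtain ⟨χ, ⟨hi, he⟩, -⟩ := IsStronglyCartesian.universal_property (cat F).p g c (𝟙 R) g
    (Category.id_comp g).symm m
  have hχs : (cat F).p.IsStronglyCartesian (𝟙 R) χ := by
    have : (cat F).p.IsStronglyCartesian (𝟙 R ≫ g) (χ ≫ c) := by rw [he, Category.id_comp]; exact h
    exact IsStronglyCartesian.of_comp (cat F).p (g := g) (ψ := c)
  have : IsIso χ := IsStronglyCartesian.isIso_of_base_isIso (cat F).p (𝟙 R) χ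
  let i := asIso χ
  have t1 := homLift_top i.hom (𝟙 R) hi
  have t2 := homLift_bot i.hom (𝟙 R) hi
  have : IsIso i.hom.top := ⟨i.inv.top, congrArg Hom.top i.hom_inv_id, congrArg Hom.top i.inv_hom_id⟩
  have : IsIso i.hom.bot := ⟨i.inv.bot, congrArg Hom.bot i.hom_inv_id, congrArg Hom.bot i.inv_hom_id⟩
  have he : i.hom ≫ c = m := he
  rw [← he]
  constructor
  · change 𝒳.p.IsStronglyCartesian g (i.hom.top ≫ c.top)
    have := IsStronglyCartesian.of_isIso 𝒳.p (𝟙 R) i.hom.top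
    have h3 : 𝒳.p.IsStronglyCartesian (𝟙 R ≫ g) (i.hom.top ≫ c.top) := inferInstance
    rwa [Category.id_comp] at h3
  · change 𝒴.p.IsStronglyCartesian g (i.hom.bot ≫ c.bot)
    have := IsStronglyCartesian.of_isIso 𝒴.p (𝟙 R) i.hom.bot
    have h3 : 𝒴.p.IsStronglyCartesian (𝟙 R ≫ g) (i.hom.bot ≫ c.bot) := inferInstance
    rwa [Category.id_comp] at h3

variable (F)

/-- The fully faithful embedding. -/
def emb : 𝒳 ⥤ᵇ cat F where
  toFunctor :=
    { obj := fun x => ⟨x, F.obj x, 𝟙 _, IsHomLift.id (F.w_obj x)⟩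
      map := fun t => ⟨t, F.map t, (Category.comp_id _).trans (Category.id_comp _).symm⟩
      map_id := fun x => hom_ext rfl (F.toFunctor.map_id x)
      map_comp := fun s t => hom_ext rfl (F.toFunctor.map_comp s t) }
  w := rfl

/-- The projection to the target. -/
def toTarget : cat F ⥤ᵇ 𝒴 where
  toFunctor :=
    { obj := fun a => a.y
      map := fun m => m.bot
      map_id := fun _ => rfl
      map_comp := fun _ _ => rfl }
  w := CategoryTheory.Functor.ext (fun a => obj_eq a) (fun _ _ m => map_bot m)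

/-- The projection to the source. -/
def toSource : cat F ⥤ᵇ 𝒳 where
  toFunctor :=
    { obj := fun a => a.x
      map := fun m => m.top
      map_id := fun _ => rfl
      map_comp := fun _ _ => rfl }
  w := rfl

/-- The adjunction. -/
def adj : (toSource F).toFunctor ⊣ (emb F).toFunctor :=
  Adjunction.mkOfHomEquiv
    { homEquiv := fun a x =>
        { toFun := fun t => ⟨t, a.f ≫ F.map t, Category.comp_id _⟩
          invFun := fun m => m.top
          left_inv := fun _ => rfl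
          right_inv := fun m => hom_ext rfl (m.w.symm.trans (Category.comp_id _)) }
      homEquiv_naturality_left_symm := fun _ _ => rfl
      homEquiv_naturality_right := fun {a x x'} t t' => hom_ext rfl (by
        change a.f ≫ F.map (t ≫ t') = (a.f ≫ F.map t) ≫ F.map t'
        rw [F.toFunctor.map_comp, Category.assoc]) }

include hF in
lemma toTarget_isFibered : (toTarget F).toFunctor.IsFibered := by
  refine IsFibered.of_exists_isStronglyCartesian fun b y' h => ?_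
  change y' ⟶ b.y at h
  let g : 𝒴.p.obj y' ⟶ 𝒳.p.obj b.x := 𝒴.p.map h ≫ eqToHom (obj_eq b)
  obtain ⟨x', t, ht⟩ := isFibered_exists_sc 𝒳.p (a := b.x) rfl g
  have := hF g t ht
  have h0 : 𝒴.p.IsHomLift g h := IsHomLift.of_fac' 𝒴.p g h rfl (obj_eq b) (by simp [g])
  have := b.vert
  have h1 : 𝒴.p.IsHomLift g (h ≫ b.f) := IsHomLift.comp_lift_id_right' 𝒴.p g h (𝒳.p.obj b.x) b.f
  obtain ⟨f', ⟨hf', hfe⟩, -⟩ := IsStronglyCartesian.universal_property 𝒴.p g (F.map t)
    (𝟙 (𝒴.p.obj y')) g (Category.id_comp g).symm (h ≫ b.f)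
  have hx : 𝒳.p.obj x' = 𝒴.p.obj y' := IsHomLift.domain_eq 𝒳.p g t
  let a : Obj F := ⟨x', y', f', hx.symm ▸ hf'⟩
  let m : a ⟶ b := ⟨t, h, hfe.symm⟩
  refine ⟨a, m, { toIsHomLift := IsHomLift.map (toTarget F).toFunctor m, universal_property' := fun {a'} k n hn => ?_ }⟩
  change a'.y ⟶ y' at k
  have hnb : k ≫ h = n.bot := @IsHomLift.eq_of_isHomLift _ _ _ _ (toTarget F).toFunctor a' b _ n hn
  let l : 𝒳.p.obj a'.x ⟶ 𝒴.p.obj y' := eqToHom (obj_eq a').symm ≫ 𝒴.p.map k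
  have hl : l ≫ g = 𝒳.p.map n.top := by
    have e := map_bot n
    rw [← hnb, Functor.map_comp] at e
    simp only [l, g, Category.assoc]
    rw [← Category.assoc (𝒴.p.map k), e]
    simp
  have hnt : 𝒳.p.IsHomLift (𝒳.p.map n.top) n.top := IsHomLift.map 𝒳.p _
  obtain ⟨χ, ⟨hχ, hχe⟩, hχu⟩ := IsStronglyCartesian.universal_property 𝒳.p g t l _ hl.symm n.top
  have hχ' := @BasedFunctor.preserves_isHomLift _ _ _ _ F _ _ _ _ l χ hχ
  have hk : 𝒴.p.IsHomLift l k := IsHomLift.of_fac' 𝒴.p _ _ (obj_eq a') rfl (by simp [l])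
  have hw : k ≫ f' = a'.f ≫ F.map χ := by
    have h₄ : 𝒴.p.IsHomLift l (k ≫ f') := IsHomLift.comp_lift_id_right' 𝒴.p l k (𝒴.p.obj y') f'
    have h₅ : 𝒴.p.IsHomLift l (a'.f ≫ F.map χ) :=
      haveI := a'.vert
      IsHomLift.comp_lift_id_left' 𝒴.p (𝒳.p.obj a'.x) a'.f l (F.map χ)
    refine IsStronglyCartesian.ext 𝒴.p g (F.map t) l ?_
    rw [Category.assoc, hfe, reassoc_of% hnb, n.w, Category.assoc, ← F.toFunctor.map_comp, hχe]
  let n' : a' ⟶ a := ⟨χ, k, hw⟩
  refine ⟨n', ⟨IsHomLift.map (toTarget F).toFunctor n', hom_ext hχe hnb⟩, ?_⟩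
  rintro o ⟨ho, hoe⟩
  have hob : k = o.bot := @IsHomLift.eq_of_isHomLift _ _ _ _ (toTarget F).toFunctor a' a _ o ho
  refine hom_ext (hχu _ ⟨?_, congrArg Hom.top hoe⟩) hob.symm
  refine IsHomLift.of_fac' 𝒳.p l o.top rfl hx ?_
  simp only [l, hob, map_bot o]
  simp [a]

end Groth.Agent.H14Fib.Factor
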