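import Groth.Agent.H14Fib.FpMap
import Groth.Agent.H14Fib.Magic
import Groth.Agent.H14Fib.Paste

/-!
# Fibre product calculus for categories of arbitrary size
-/

set_option autoImplicit false
set_option backward.isDefEq.respectTransparency false
set_option backward.isDefEq.respectTransparency.types false

universe v₇ u₇ v₆ u₆ v₅ u₅ v₄ u₄ v₃ u₃ v₂ u₂ v u

open CategoryTheory CategoryTheory.Functor

namespace Groth.Agent.H14FibU

open H14Fib hiding appIso appIso_lift appIso_inv_lift fpMapIso fpMapIso_lift fpMap fpMap_isEquivOver fp_congr_left fp_congr_right pairMap fpDown magicIso magicFun magicFun_isEquivOver pasteBaseIso pasteBaseIso_lift pasteBase pasteBase_isEquivOver basedId_full basedId_faithful essSurjOver_id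

variable {C : Type u} [Category.{v} C]

section App

variable {𝒳 : BasedCategory.{v₂, u₂} C} {𝒴 : BasedCategory.{v₃, u₃} C}

/-- The component of an isomorphism of based functors. -/
abbrev appIso {F G : 𝒳 ⥤ᵇ 𝒴} (e : F ≅ G) (a : 𝒳.obj) : F.obj a ≅ G.obj a :=
  ((BasedNatTrans.forgetful 𝒳 𝒴).mapIso e).app a

lemma appIso_lift {F G : 𝒳 ⥤ᵇ 𝒴} (e : F ≅ G) {a : 𝒳.obj} {U : C} (ha : 𝒳.p.obj a = U) :
    𝒴.p.IsHomLift (𝟙 U) (appIso e a).hom :=
  BasedNatTrans.isHomLift e.hom ha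

lemma appIso_inv_lift {F G : 𝒳 ⥤ᵇ 𝒴} (e : F ≅ G) {a : 𝒳.obj} {U : C} (ha : 𝒳.p.obj a = U) :
    𝒴.p.IsHomLift (𝟙 U) (appIso e a).inv :=
  BasedNatTrans.isHomLift e.inv ha

instance basedId_full (𝒳 : BasedCategory.{v₂, u₂} C) :
    (BasedFunctor.id 𝒳).toFunctor.Full := inferInstanceAs (𝟭 𝒳.obj).Full

instance basedId_faithful (𝒳 : BasedCategory.{v₂, u₂} C) :
    (BasedFunctor.id 𝒳).toFunctor.Faithful := inferInstanceAs (𝟭 𝒳.obj).Faithful

lemma essSurjOver_id (𝒳 : BasedCategory.{v₂, u₂} C) : EssSurjOver (BasedFunctor.id 𝒳) :=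
  essSurjOver_of_isEquivOver (isEquivOver_id 𝒳)

end App

section Calc

variable {𝒳 : BasedCategory.{v₂, u₂} C} {𝒴 : BasedCategory.{v₃, u₃} C}
  {𝒮 : BasedCategory.{v₄, u₄} C} {𝒳' : BasedCategory.{v₅, u₅} C} {𝒴' : BasedCategory.{v₆, u₆} C}
  {𝒮' : BasedCategory.{v₇, u₇} C}
  {F : 𝒳 ⥤ᵇ 𝒮} {G : 𝒴 ⥤ᵇ 𝒮} {F' : 𝒳' ⥤ᵇ 𝒮'} {G' : 𝒴' ⥤ᵇ 𝒮'}

section Map

variable (a : 𝒳' ⥤ᵇ 𝒳) (b : 𝒴' ⥤ᵇ 𝒴) (c : 𝒮' ⥤ᵇ 𝒮)
  (e₁ : BasedFunctor.comp F' c ≅ BasedFunctor.comp a F)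
  (e₂ : BasedFunctor.comp G' c ≅ BasedFunctor.comp b G)

/-- The isomorphism of the image object. -/
def fpMapIso (x : (FibCat.fp F' G').obj) : F.obj (a.obj x.obj.fst) ≅ G.obj (b.obj x.obj.snd) :=
  (appIso e₁ x.obj.fst).symm ≪≫ c.toFunctor.mapIso x.obj.iso ≪≫ appIso e₂ x.obj.snd

lemma fpMapIso_lift (x : (FibCat.fp F' G').obj) :
    𝒮.p.IsHomLift (𝟙 (𝒳'.p.obj x.obj.fst)) (fpMapIso a b c e₁ e₂ x).hom :=
  homLift_id_comp (appIso_inv_lift e₁ rfl)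
    (homLift_id_comp (@BasedFunctor.preserves_isHomLift _ _ _ _ c _ _ _ _ _ _ x.property)
      (appIso_lift e₂ (fp_snd_obj x)))

/-- Functoriality of the fibre product in all three arguments. -/
def fpMap : FibCat.fp F' G' ⥤ᵇ FibCat.fp F G where
  toFunctor :=
    { obj := fun x => fpObj (a.obj x.obj.fst) (b.obj x.obj.snd) (fpMapIso a b c e₁ e₂ x)
        (a.w_obj _) (fpMapIso_lift a b c e₁ e₂ x)
      map := fun {x y} f => fpHom (a.map f.hom.fst) (b.map f.hom.snd) (by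
        change F.map (a.map f.hom.fst) ≫ (appIso e₁ y.obj.fst).inv ≫ c.map y.obj.iso.hom ≫
            (appIso e₂ y.obj.snd).hom =
          ((appIso e₁ x.obj.fst).inv ≫ c.map x.obj.iso.hom ≫ (appIso e₂ x.obj.snd).hom) ≫
            G.map (b.map f.hom.snd)
        have h1 : F.map (a.map f.hom.fst) ≫ (appIso e₁ y.obj.fst).inv =
            (appIso e₁ x.obj.fst).inv ≫ c.map (F'.map f.hom.fst) :=
          e₁.inv.toNatTrans.naturality f.hom.fst
        have h2 : c.map (G'.map f.hom.snd) ≫ (appIso e₂ y.obj.snd).hom =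
            (appIso e₂ x.obj.snd).hom ≫ G.map (b.map f.hom.snd) :=
          e₂.hom.toNatTrans.naturality f.hom.snd
        rw [reassoc_of% h1, ← Functor.map_comp_assoc, f.hom.w, Functor.map_comp_assoc, h2]
        simp only [Category.assoc])
      map_id := fun x => fp_hom_ext (a.toFunctor.map_id _) (b.toFunctor.map_id _)
      map_comp := fun f g => fp_hom_ext (a.toFunctor.map_comp _ _) (b.toFunctor.map_comp _ _) }
  w := by
    refine CategoryTheory.Functor.ext (fun x => ?_) (fun x y f => ?_)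
    · exact a.w_obj x.obj.fst
    · exact Functor.congr_hom a.w f.hom.fst

lemma fpMap_isEquivOver [a.toFunctor.Full] [a.toFunctor.Faithful] [b.toFunctor.Full]
    [b.toFunctor.Faithful] [c.toFunctor.Full] [c.toFunctor.Faithful]
    (ha : EssSurjOver a) (hb : EssSurjOver b) :
    FibCat.IsEquivOver (fpMap a b c e₁ e₂) := by
  refine (isEquivOver_iff _).2 ⟨⟨⟨fun {x y} f => ?_⟩, ⟨fun {x y} f g h => ?_⟩⟩, fun z => ?_⟩
  · refine ⟨fpHom (a.toFunctor.preimage f.hom.fst) (b.toFunctor.preimage f.hom.snd) ?_,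
      fp_hom_ext (a.toFunctor.map_preimage _) (b.toFunctor.map_preimage _)⟩
    apply c.toFunctor.map_injective
    have hw : F.map f.hom.fst ≫ (fpMapIso a b c e₁ e₂ y).hom =
        (fpMapIso a b c e₁ e₂ x).hom ≫ G.map f.hom.snd := f.hom.w
    have h1 : F.map (a.map (a.toFunctor.preimage f.hom.fst)) ≫ (appIso e₁ y.obj.fst).inv =
        (appIso e₁ x.obj.fst).inv ≫ c.map (F'.map (a.toFunctor.preimage f.hom.fst)) :=
      e₁.inv.toNatTrans.naturality (a.toFunctor.preimage f.hom.fst)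
    have h2 : c.map (G'.map (b.toFunctor.preimage f.hom.snd)) ≫ (appIso e₂ y.obj.snd).hom =
        (appIso e₂ x.obj.snd).hom ≫ G.map (b.map (b.toFunctor.preimage f.hom.snd)) :=
      e₂.hom.toNatTrans.naturality (b.toFunctor.preimage f.hom.snd)
    rw [a.toFunctor.map_preimage] at h1
    rw [b.toFunctor.map_preimage] at h2
    rw [← cancel_epi (appIso e₁ x.obj.fst).inv, ← cancel_mono (appIso e₂ y.obj.snd).hom]
    simp only [fpMapIso, Iso.trans_hom, Iso.symm_hom, Functor.mapIso_hom, Category.assoc] at hw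
    simp only [Functor.map_comp, Category.assoc]
    rw [← reassoc_of% h1, h2]
    exact hw
  · exact fp_hom_ext (a.toFunctor.map_injective (congrArg (fun t => t.hom.fst) h))
      (b.toFunctor.map_injective (congrArg (fun t => t.hom.snd) h))
  · obtain ⟨x', d, hd⟩ := ha z.obj.fst
    obtain ⟨y', d', hd'⟩ := hb z.obj.snd
    have hxU : 𝒳'.p.obj x' = 𝒳.p.obj z.obj.fst := EssSurjOver.obj_eq d.hom
    have hyU : 𝒴'.p.obj y' = 𝒳.p.obj z.obj.fst :=
      (EssSurjOver.obj_eq d'.hom).trans (fp_snd_obj z)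
    have hd'U : 𝒴.p.IsHomLift (𝟙 (𝒳.p.obj z.obj.fst)) d'.hom := fp_snd_obj z ▸ hd'
    have hd'i := IsHomLift.lift_id_inv 𝒴.p (𝒳.p.obj z.obj.fst) d'
    let i : c.obj (F'.obj x') ≅ c.obj (G'.obj y') :=
      appIso e₁ x' ≪≫ F.toFunctor.mapIso d ≪≫ z.obj.iso ≪≫ (G.toFunctor.mapIso d').symm ≪≫
        (appIso e₂ y').symm
    have hi : 𝒮.p.IsHomLift (𝟙 (𝒳.p.obj z.obj.fst)) i.hom :=
      homLift_id_comp (appIso_lift e₁ hxU) (homLift_id_comp
        (BasedFunctor.preserves_isHomLift F _ d.hom) (homLift_id_comp z.property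
          (homLift_id_comp (BasedFunctor.preserves_isHomLift G _ d'.inv)
            (appIso_inv_lift e₂ hyU))))
    let i' := c.toFunctor.preimageIso i
    have hi' : 𝒮'.p.IsHomLift (𝟙 (𝒳.p.obj z.obj.fst)) i'.hom := by
      rw [← BasedFunctor.isHomLift_iff c]
      change 𝒮.p.IsHomLift _ (c.map (c.toFunctor.preimage i.hom))
      rw [c.toFunctor.map_preimage]
      exact hi
    refine ⟨fpObj x' y' i' hxU hi', fpIsoMk d d' ?_, (fp_isHomLift_iff _ _).2 hd⟩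
    change F.map d.hom ≫ z.obj.iso.hom =
      ((appIso e₁ x').inv ≫ c.map (c.toFunctor.preimage i.hom) ≫ (appIso e₂ y').hom) ≫ G.map d'.hom
    rw [c.toFunctor.map_preimage]
    simp only [i, Iso.trans_hom, Iso.symm_hom, Functor.mapIso_hom, Functor.mapIso_inv,
      Category.assoc, Iso.inv_hom_id_assoc]
    rw [← Functor.map_comp, d'.inv_hom_id, CategoryTheory.Functor.map_id, Category.comp_id]

end Map

/-- Fibre products along isomorphic functors are equivalent. -/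
lemma fp_congr_left {F₁ : 𝒳 ⥤ᵇ 𝒮} (e : F₁ ≅ F) :
    ∃ E : FibCat.fp F₁ G ⥤ᵇ FibCat.fp F G, FibCat.IsEquivOver E :=
  ⟨fpMap (BasedFunctor.id 𝒳) (BasedFunctor.id 𝒴) (BasedFunctor.id 𝒮) e (Iso.refl _),
    fpMap_isEquivOver _ _ _ _ _ (essSurjOver_id _) (essSurjOver_id _)⟩

lemma fp_congr_right {G₁ : 𝒴 ⥤ᵇ 𝒮} (e : G₁ ≅ G) :
    ∃ E : FibCat.fp F G₁ ⥤ᵇ FibCat.fp F G, FibCat.IsEquivOver E :=
  ⟨fpMap (BasedFunctor.id 𝒳) (BasedFunctor.id 𝒴) (BasedFunctor.id 𝒮) (Iso.refl _) e,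
    fpMap_isEquivOver _ _ _ _ _ (essSurjOver_id _) (essSurjOver_id _)⟩

end Calc

section MagicSquare

variable {𝒜 : BasedCategory.{v₂, u₂} C} {ℬ : BasedCategory.{v₃, u₃} C}
  {𝒳 : BasedCategory.{v₄, u₄} C} {𝒮 : BasedCategory.{v₅, u₅} C}
  (F : 𝒜 ⥤ᵇ 𝒳) (G : ℬ ⥤ᵇ 𝒳) (H : 𝒳 ⥤ᵇ 𝒮)

/-- The map `𝒜 ×_𝒮 ℬ ⟶ 𝒳 ×_𝒮 𝒳`. -/
def pairMap : FibCat.fp (BasedFunctor.comp F H) (BasedFunctor.comp G H) ⥤ᵇ FibCat.fp H H :=
  fpMap (F' := BasedFunctor.comp F H) (G' := BasedFunctor.comp G H) (F := H) (G := H)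
    F G (BasedFunctor.id 𝒮) (Iso.refl _) (Iso.refl _)

/-- Forget the identification over `𝒳` down to `𝒮`. -/
def fpDown : FibCat.fp F G ⥤ᵇ FibCat.fp (BasedFunctor.comp F H) (BasedFunctor.comp G H) :=
  FibCat.fpLift (F := BasedFunctor.comp F H) (G := BasedFunctor.comp G H) (FibCat.fpFst F G)
    (FibCat.fpSnd F G) ((H14Stk.post (FibCat.fp F G) H).mapIso (FibCat.fpIso F G))

/-- The component of the 2-isomorphism of the magic square. -/
def magicIso (x : (FibCat.fp F G).obj) :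
    (pairMap F G H).obj ((fpDown F G H).obj x) ≅ (FibCat.diag H).obj (F.obj x.obj.fst) :=
  fpIsoMk (Iso.refl _) x.obj.iso.symm (by
    change H.map (𝟙 _) ≫ 𝟙 _ = (𝟙 _ ≫ H.map x.obj.iso.hom ≫ 𝟙 _) ≫ H.map x.obj.iso.inv
    rw [H.toFunctor.map_id]
    simp only [Category.id_comp, Category.comp_id]
    erw [← H.toFunctor.map_comp, x.obj.iso.hom_inv_id, H.toFunctor.map_id])

/-- `𝒜 ×_𝒳 ℬ ⟶ (𝒜 ×_𝒮 ℬ) ×_{𝒳 ×_𝒮 𝒳} 𝒳`. -/
def magicFun : FibCat.fp F G ⥤ᵇ FibCat.fp (pairMap F G H) (FibCat.diag H) :=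
  FibCat.fpLift (fpDown F G H) (BasedFunctor.comp (FibCat.fpFst F G) F)
    (H14Stk.mkIso (magicIso F G H)
      (fun {x y} m => fp_hom_ext
        ((Category.comp_id _).trans (Category.id_comp _).symm)
        (by
          change G.map m.hom.snd ≫ y.obj.iso.inv = x.obj.iso.inv ≫ F.map m.hom.fst
          rw [Iso.comp_inv_eq, Category.assoc, Iso.eq_inv_comp]
          exact m.hom.w.symm))
      (fun x => (fp_isHomLift_iff _ _).2 (IsHomLift.id (F.w_obj x.obj.fst))))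

lemma magicFun_isEquivOver : FibCat.IsEquivOver (magicFun F G H) := by
  refine (isEquivOver_iff _).2 ⟨⟨⟨fun {x y} m => ?_⟩, ⟨fun {x y} m n h => ?_⟩⟩, fun z => ?_⟩
  · have hw : (pairMap F G H).map m.hom.fst ≫ (magicIso F G H y).hom =
        (magicIso F G H x).hom ≫ (FibCat.diag H).map m.hom.snd := m.hom.w
    have h1 : F.map m.hom.fst.hom.fst ≫ 𝟙 _ = 𝟙 _ ≫ m.hom.snd := congrArg (fun t => t.hom.fst) hw
    have h2 : G.map m.hom.fst.hom.snd ≫ y.obj.iso.inv = x.obj.iso.inv ≫ m.hom.snd :=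
      congrArg (fun t => t.hom.snd) hw
    have h1' : F.map m.hom.fst.hom.fst = m.hom.snd :=
      (Category.comp_id _).symm.trans (h1.trans (Category.id_comp _))
    refine ⟨fpHom m.hom.fst.hom.fst m.hom.fst.hom.snd ?_, fp_hom_ext (fp_hom_ext rfl rfl) h1'⟩
    rw [Iso.comp_inv_eq, Category.assoc, Iso.eq_inv_comp] at h2
    rw [h1']
    exact h2.symm
  · exact fp_hom_ext (congrArg (fun t => t.hom.fst.hom.fst) h)
      (congrArg (fun t => t.hom.fst.hom.snd) h)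
  · obtain ⟨⟨q, c, j⟩, hj⟩ := z
    let a := q.obj.fst
    let b := q.obj.snd
    let j₁ : F.obj a ≅ c := (FibCat.fpFst H H).toFunctor.mapIso j
    let j₂ : G.obj b ≅ c := (FibCat.fpSnd H H).toFunctor.mapIso j
    have hj₁ : 𝒳.p.IsHomLift (𝟙 (𝒜.p.obj a)) j₁.hom :=
      @BasedFunctor.preserves_isHomLift _ _ _ _ (FibCat.fpFst H H) _ _ _ _ (𝟙 _) j.hom hj
    have hj₂ : 𝒳.p.IsHomLift (𝟙 (𝒜.p.obj a)) j₂.hom :=
      @BasedFunctor.preserves_isHomLift _ _ _ _ (FibCat.fpSnd H H) _ _ _ _ (𝟙 _) j.hom hj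
    have hj₂' := @IsHomLift.lift_id_inv _ _ _ _ 𝒳.p _ _ _ j₂ hj₂
    let x : (FibCat.fp F G).obj := fpObj a b (j₁ ≪≫ j₂.symm) rfl (homLift_id_comp hj₁ hj₂')
    have hq : H.map j₁.hom = q.obj.iso.hom ≫ H.map j₂.hom := by
      have hw : H.map j₁.hom ≫ 𝟙 _ = (𝟙 _ ≫ q.obj.iso.hom ≫ 𝟙 _) ≫ H.map j₂.hom := j.hom.hom.w
      erw [Category.comp_id, Category.id_comp, Category.comp_id] at hw
      exact hw
    let e₀ : ((fpDown F G H).obj x) ≅ q := fpIsoMk (Iso.refl a) (Iso.refl b) (by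
      change H.map (F.map (𝟙 a)) ≫ q.obj.iso.hom = H.map (j₁.hom ≫ j₂.inv) ≫ H.map (G.map (𝟙 b))
      have h3 : H.map j₂.hom ≫ H.map j₂.inv = 𝟙 _ := by
        rw [← H.toFunctor.map_comp, j₂.hom_inv_id, H.toFunctor.map_id]
      erw [H.toFunctor.map_comp, hq, F.toFunctor.map_id, G.toFunctor.map_id, H.toFunctor.map_id,
        H.toFunctor.map_id, Category.comp_id, Category.assoc, h3, Category.comp_id, Category.id_comp])
    refine ⟨x, fpIsoMk e₀ j₁ ?_, (fp_isHomLift_iff _ _).2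
      ((fp_isHomLift_iff _ _).2 (IsHomLift.id rfl))⟩
    refine fp_hom_ext ?_ ?_
    · change F.map (𝟙 a) ≫ j₁.hom = 𝟙 _ ≫ j₁.hom
      rw [F.toFunctor.map_id]
    · change G.map (𝟙 b) ≫ j₂.hom = (j₂.hom ≫ j₁.inv) ≫ j₁.hom
      rw [G.toFunctor.map_id, Category.assoc, j₁.inv_hom_id, Category.comp_id, Category.id_comp]

end MagicSquare

section Paste

variable {𝒳 : BasedCategory.{v₂, u₂} C} {𝒴 : BasedCategory.{v₃, u₃} C}
  {𝒵 : BasedCategory.{v₄, u₄} C} {𝒰 : BasedCategory.{v₅, u₅} C}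

section Base

variable (g : 𝒵 ⥤ᵇ 𝒴) (f : 𝒳 ⥤ᵇ 𝒴) (G : 𝒰 ⥤ᵇ 𝒵)

/-- The isomorphism of the pasted object. -/
def pasteBaseIso (p : (FibCat.fp G (FibCat.fpFst g f)).obj) :
    g.obj (G.obj p.obj.fst) ≅ f.obj p.obj.snd.obj.snd :=
  g.toFunctor.mapIso p.obj.iso ≪≫ p.obj.snd.obj.iso

lemma pasteBaseIso_lift (p : (FibCat.fp G (FibCat.fpFst g f)).obj) :
    𝒴.p.IsHomLift (𝟙 (𝒰.p.obj p.obj.fst)) (pasteBaseIso g f G p).hom :=
  homLift_id_comp (@BasedFunctor.preserves_isHomLift _ _ _ _ g _ _ _ _ _ _ p.property)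
    (fp_iso_isHomLift p.obj.snd (fp_snd_obj p))

/-- `𝒰 ×_𝒵 (𝒵 ×_𝒴 𝒳) ⟶ 𝒰 ×_𝒴 𝒳`. -/
def pasteBase : FibCat.fp G (FibCat.fpFst g f) ⥤ᵇ FibCat.fp (BasedFunctor.comp G g) f where
  toFunctor :=
    { obj := fun p => fpObj (F := BasedFunctor.comp G g) p.obj.fst p.obj.snd.obj.snd
        (pasteBaseIso g f G p) rfl (pasteBaseIso_lift g f G p)
      map := fun {p q} m => fpHom m.hom.fst m.hom.snd.hom.snd (by
        have h1 : G.map m.hom.fst ≫ q.obj.iso.hom = p.obj.iso.hom ≫ m.hom.snd.hom.fst := m.hom.w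
        have h2 : g.map m.hom.snd.hom.fst ≫ q.obj.snd.obj.iso.hom =
            p.obj.snd.obj.iso.hom ≫ f.map m.hom.snd.hom.snd := m.hom.snd.hom.w
        change g.map (G.map m.hom.fst) ≫ g.map q.obj.iso.hom ≫ q.obj.snd.obj.iso.hom =
          (g.map p.obj.iso.hom ≫ p.obj.snd.obj.iso.hom) ≫ f.map m.hom.snd.hom.snd
        rw [← Functor.map_comp_assoc, h1, Functor.map_comp_assoc, h2, Category.assoc])
      map_id := fun p => fp_hom_ext rfl rfl
      map_comp := fun m n => fp_hom_ext rfl rfl }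
  w := rfl

lemma pasteBase_isEquivOver : FibCat.IsEquivOver (pasteBase g f G) := by
  refine (isEquivOver_iff _).2 ⟨⟨⟨fun {p q} m => ?_⟩, ⟨fun {p q} m n h => ?_⟩⟩, fun z => ?_⟩
  · let s : p.obj.snd.obj.fst ⟶ q.obj.snd.obj.fst :=
      p.obj.iso.inv ≫ G.map m.hom.fst ≫ q.obj.iso.hom
    have hm : g.map (G.map m.hom.fst) ≫ g.map q.obj.iso.hom ≫ q.obj.snd.obj.iso.hom =
        (g.map p.obj.iso.hom ≫ p.obj.snd.obj.iso.hom) ≫ f.map m.hom.snd := m.hom.w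
    have hs : g.map s ≫ q.obj.snd.obj.iso.hom = p.obj.snd.obj.iso.hom ≫ f.map m.hom.snd := by
      rw [← cancel_epi (g.map p.obj.iso.hom), ← Category.assoc (g.map p.obj.iso.hom)
        p.obj.snd.obj.iso.hom, ← hm]
      rw [← Functor.map_comp_assoc, Iso.hom_inv_id_assoc, Functor.map_comp, Category.assoc]
    let F₂ : p.obj.snd ⟶ q.obj.snd := fpHom s m.hom.snd hs
    exact ⟨fpHom m.hom.fst F₂ (by
      change G.map m.hom.fst ≫ q.obj.iso.hom = p.obj.iso.hom ≫ s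
      simp [s]), fp_hom_ext rfl rfl⟩
  · have h1 : m.hom.fst = n.hom.fst := congrArg (fun t => t.hom.fst) h
    have h2 : m.hom.snd.hom.snd = n.hom.snd.hom.snd := congrArg (fun t => t.hom.snd) h
    have h3 : m.hom.snd.hom.fst = n.hom.snd.hom.fst := by
      have hm : G.map m.hom.fst ≫ q.obj.iso.hom = p.obj.iso.hom ≫ m.hom.snd.hom.fst := m.hom.w
      have hn : G.map n.hom.fst ≫ q.obj.iso.hom = p.obj.iso.hom ≫ n.hom.snd.hom.fst := n.hom.w
      rw [← cancel_epi p.obj.iso.hom, ← hm, ← hn, h1]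
    exact fp_hom_ext h1 (fp_hom_ext h3 h2)
  · have hG : 𝒵.p.obj (G.obj z.obj.fst) = 𝒰.p.obj z.obj.fst := G.w_obj _
    let P : (FibCat.fp g f).obj := fpObj (G.obj z.obj.fst) z.obj.snd z.obj.iso hG z.property
    let Q : (FibCat.fp G (FibCat.fpFst g f)).obj :=
      fpObj z.obj.fst P (Iso.refl _) rfl (IsHomLift.id hG)
    refine ⟨Q, fpIsoMk (Iso.refl _) (Iso.refl _) ?_, (fp_isHomLift_iff _ _).2 (IsHomLift.id rfl)⟩
    change g.map (G.map (𝟙 _)) ≫ z.obj.iso.hom = (g.map (𝟙 _) ≫ z.obj.iso.hom) ≫ f.map (𝟙 _)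
    simp

end Base

end Paste

end Groth.Agent.H14FibU
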