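import Groth.Agent.H14Fib.Paste
import Groth.Agent.H14Fib.Yoneda

/-!
# Representable categories and functors over the base
-/

set_option autoImplicit false
set_option backward.isDefEq.respectTransparency false
set_option backward.isDefEq.respectTransparency.types false

universe v u

open CategoryTheory CategoryTheory.Functor

namespace Groth.Agent.H14Fib

variable {C : Type u} [Category.{v} C] {𝒳 𝒴 𝒵 : BasedCategory.{v, max u v} C}

lemma rep_of_equiv_source {E : 𝒳 ⥤ᵇ 𝒴} (hE : FibCat.IsEquivOver E)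
    (h : FibCat.IsRepresentable 𝒴) : FibCat.IsRepresentable 𝒳 := by
  obtain ⟨U, F, hF⟩ := h
  exact ⟨U, BasedFunctor.comp E F, isEquivOver_comp hE hF⟩

lemma rep_of_equiv_target {E : 𝒳 ⥤ᵇ 𝒴} (hE : FibCat.IsEquivOver E)
    (h : FibCat.IsRepresentable 𝒳) : FibCat.IsRepresentable 𝒴 := by
  obtain ⟨E', hE'⟩ := IsEquivOver.symm' hE
  exact rep_of_equiv_source hE' h

/-- The test of representability for a composite, at one test functor. -/
lemma rep_fp_comp {f : 𝒳 ⥤ᵇ 𝒴} (hf : FibCat.IsRepresentable1 f) {g : 𝒴 ⥤ᵇ 𝒵}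
    {𝒰 : BasedCategory.{v, max u v} C} (G : 𝒰 ⥤ᵇ 𝒵)
    (hg : FibCat.IsRepresentable (FibCat.fp G g)) :
    FibCat.IsRepresentable (FibCat.fp G (BasedFunctor.comp f g)) := by
  obtain ⟨V, J, hJ⟩ := hg
  obtain ⟨k, hk⟩ := IsEquivOver.symm' hJ
  refine rep_of_equiv_target (pasteComp_isEquivOver G g f) ?_
  obtain ⟨E, hE⟩ := fp_equiv_left (F := FibCat.fpSnd G g) (G := f) hk
  exact rep_of_equiv_target hE (hf V _)

lemma rep1_comp {f : 𝒳 ⥤ᵇ 𝒴} {g : 𝒴 ⥤ᵇ 𝒵} (hf : FibCat.IsRepresentable1 f)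
    (hg : FibCat.IsRepresentable1 g) : FibCat.IsRepresentable1 (BasedFunctor.comp f g) :=
  fun U G => rep_fp_comp hf G (hg U G)

lemma rep1_fpFst {f : 𝒳 ⥤ᵇ 𝒴} (g : 𝒵 ⥤ᵇ 𝒴) (hf : FibCat.IsRepresentable1 f) :
    FibCat.IsRepresentable1 (FibCat.fpFst g f) :=
  fun U G => rep_of_equiv_source (pasteBase_isEquivOver g f G) (hf U _)

lemma rep1_of_square {𝒳' 𝒴' : BasedCategory.{v, max u v} C} {f : 𝒳 ⥤ᵇ 𝒴} {f' : 𝒳' ⥤ᵇ 𝒴'}
    {a : 𝒳' ⥤ᵇ 𝒳} {b : 𝒴' ⥤ᵇ 𝒴} (ha : FibCat.IsEquivOver a) (hb : FibCat.IsEquivOver b)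
    (e : BasedFunctor.comp f' b ≅ BasedFunctor.comp a f) :
    FibCat.IsRepresentable1 f ↔ FibCat.IsRepresentable1 f' := by
  obtain ⟨⟨_, _⟩, ha'⟩ := (isEquivOver_iff a).1 ha
  obtain ⟨⟨_, _⟩, -⟩ := (isEquivOver_iff b).1 hb
  have key : ∀ {U : C} (G : FibCat.overCat U ⥤ᵇ 𝒴'),
      ∃ E : FibCat.fp G f' ⥤ᵇ FibCat.fp (BasedFunctor.comp G b) f, FibCat.IsEquivOver E :=
    fun {U} G => ⟨fpMap (BasedFunctor.id _) a b (Iso.refl _) e,
      fpMap_isEquivOver _ _ _ _ _ (essSurjOver_id _) ha'⟩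
  constructor
  · intro h U G
    obtain ⟨E, hE⟩ := key G
    exact rep_of_equiv_source hE (h U _)
  · intro h U G
    obtain ⟨b', ⟨i⟩, ⟨j⟩⟩ := hb
    obtain ⟨E, hE⟩ := key (BasedFunctor.comp G b')
    have i₁ : BasedFunctor.comp (BasedFunctor.comp G b') b ≅ G :=
      BasedNatIso.mkNatIso
        (Functor.isoWhiskerLeft G.toFunctor ((BasedNatTrans.forgetful _ _).mapIso j))
        (fun a => BasedNatTrans.isHomLift j.hom (G.w_obj a))
    obtain ⟨E', hE'⟩ := fp_congr_left (G := f) i₁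
    exact rep_of_equiv_target hE' (rep_of_equiv_target hE (h U _))

end Groth.Agent.H14Fib
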