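import Groth.Agent.H14Fib.Clv
import Groth.Agent.H14Fib.Equiv
import Groth.Agent.H14Fib.Setoid
import Groth.Agent.H14Fib.FiberFun
import Mathlib.CategoryTheory.Category.Cat
import Mathlib.CategoryTheory.Bicategory.Functor.LocallyDiscrete
import Mathlib.CategoryTheory.FiberedCategory.Grothendieck

/-!
# Split fibred categories
-/

set_option autoImplicit false
set_option backward.isDefEq.respectTransparency false
set_option backward.isDefEq.respectTransparency.types false
set_option backward.defeqAttrib.useBackward true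

universe v₂ u₂ v u

open CategoryTheory CategoryTheory.Functor Opposite Pseudofunctor

noncomputable section

namespace Groth.Agent.H14Fib

variable {𝒮 : Type u} [Category.{v} 𝒮] {𝒳 : Type u₂} [Category.{v₂} 𝒳] {p : 𝒳 ⥤ 𝒮}

lemma catEqToHom_app {A B : Cat.{v₂, u₂}} {F G : A ⟶ B} (e : F = G) (x : A) :
    (eqToHom e).toNatTrans.app x = eqToHom (by rw [e]) := by
  subst e
  rfl

variable (K : FibCat.Cleavage p)

lemma obj_congr {R S : 𝒮} {a a' : 𝒳} (h : a = a') (ha : p.obj a = S) {f f' : R ⟶ S} (hf : f = f') :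
    ∃ e : K.obj ha f = K.obj (h ▸ ha) f',
      K.lift ha f ≫ eqToHom h = eqToHom e ≫ K.lift (h ▸ ha) f' := by
  subst h hf
  exact ⟨rfl, by simp⟩

lemma fiberInclusion_eqToHom {S : 𝒮} {a b : p.Fiber S} (h : a = b) :
    Fiber.fiberInclusion.map (eqToHom h) = eqToHom (congrArg Subtype.val h) := by
  subst h
  rfl

section

variable {K} (hK : K.IsSplitting)
include hK

lemma inverseImage_id (S : 𝒮) : K.inverseImage (𝟙 S) = 𝟭 (p.Fiber S) := by
  refine Functor.ext (fun a => Subtype.ext (hK.1 a.2).1) fun a b φ => ?_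
  obtain ⟨ha, ha'⟩ := hK.1 a.2
  obtain ⟨hb, hb'⟩ := hK.1 b.2
  refine fiber_ext K (𝟙 S) ?_
  rw [inverseImage_map_lift]
  simp [fiberInclusion_eqToHom, ha', hb']

lemma split_lift {R S T : 𝒮} (f : T ⟶ S) (g : R ⟶ T) {a : 𝒳} (ha : p.obj a = S) :
    ∃ h : K.obj ha (g ≫ f) = K.obj (K.obj_proj ha f) g,
      K.lift ha (g ≫ f) = eqToHom h ≫ K.lift (K.obj_proj ha f) g ≫ K.lift ha f := by
  obtain ⟨h, h'⟩ := hK.2 f g ha
  refine ⟨h.symm, ?_⟩
  rw [h', ← Category.assoc, eqToHom_trans, eqToHom_refl, Category.id_comp]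

lemma inverseImage_comp {R S T : 𝒮} (f : T ⟶ S) (g : R ⟶ T) :
    K.inverseImage (g ≫ f) = K.inverseImage f ⋙ K.inverseImage g := by
  refine Functor.ext (fun a => Subtype.ext (hK.2 f g a.2).1.symm) fun a b φ => ?_
  obtain ⟨ha, ha''⟩ := split_lift hK f g a.2
  obtain ⟨hb, hb''⟩ := split_lift hK f g b.2
  refine fiber_ext K (g ≫ f) ?_
  have h₁ := inverseImage_map_lift K g ((K.inverseImage f).map φ)
  have h₂ := inverseImage_map_lift K f φ
  rw [inverseImage_map_lift]
  simp only [Functor.map_comp, fiberInclusion_eqToHom, Category.assoc, Functor.comp_map]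
  simp only [hb'', ha'']
  rw [eqToHom_trans_assoc, eqToHom_refl, Category.id_comp]
  change _ = eqToHom _ ≫ Fiber.fiberInclusion.map ((K.inverseImage g).map ((K.inverseImage f).map φ)) ≫ _
  erw [reassoc_of% h₁, h₂]
  simp

/-- The strict functor of fibres of a split category. -/
def splitFunctor : 𝒮ᵒᵖ ⥤ Cat.{v₂, u₂} where
  obj U := Cat.of (p.Fiber U.unop)
  map f := (K.inverseImage f.unop).toCatHom
  map_id U := congrArg Functor.toCatHom (inverseImage_id hK U.unop)
  map_comp f g := congrArg Functor.toCatHom (inverseImage_comp hK f.unop g.unop)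

abbrev SplitCat := CoGrothendieck (splitFunctor hK).toPseudofunctor'

/-- The fibre component of a morphism of pairs, as a morphism of the fibre. -/
abbrev fib {X Y : SplitCat hK} (f : X ⟶ Y) :
    (X.fiber : p.Fiber X.base) ⟶ (K.inverseImage f.base).obj Y.fiber := f.fiber

/-- The comparison from the category of pairs to a split category. -/
def splitPsi : SplitCat hK ⥤ 𝒳 where
  obj X := X.fiber.1
  map {X Y} f := Fiber.fiberInclusion.map (fib hK f) ≫ K.lift Y.fiber.2 f.base
  map_id X := by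
    obtain ⟨h, h'⟩ := hK.1 X.fiber.2
    change Fiber.fiberInclusion.map (fib hK (𝟙 X)) ≫ K.lift X.fiber.2 (𝟙 X.base) = _
    rw [h']
    simp [fib, Functor.toPseudofunctor', splitFunctor]
    erw [fiberInclusion_eqToHom (p := p), eqToHom_trans, eqToHom_refl]
    rfl
  map_comp {X Y Z} f g := by
    obtain ⟨h, h'⟩ := split_lift hK g.base f.base Z.fiber.2
    have h₁ := inverseImage_map_lift K f.base (fib hK g)
    change _ = (_ ≫ K.lift Y.fiber.2 f.base) ≫ _
    simp only [Category.assoc]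
    erw [← reassoc_of% h₁]
    simp [fib, Functor.toPseudofunctor', Quiver.Hom.toLoc, splitFunctor, catEqToHom_app,
      fiberInclusion_eqToHom, h']

lemma p_map_splitPsi {X Y : SplitCat hK} (f : X ⟶ Y) :
    p.map ((splitPsi hK).map f) = eqToHom X.fiber.2 ≫ f.base ≫ eqToHom Y.fiber.2.symm := by
  have : p.IsHomLift f.base ((splitPsi hK).map f) := by
    dsimp [splitPsi]
    infer_instance
  exact IsHomLift.fac' p f.base _

lemma splitPsi_faithful : (splitPsi hK).Faithful where
  map_injective {X Y} f g e := by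
    obtain ⟨fb, ff⟩ := f
    obtain ⟨gb, gf⟩ := g
    obtain rfl : fb = gb := by
      have := congrArg p.map e
      rw [p_map_splitPsi, p_map_splitPsi] at this
      exact (cancel_mono _).1 ((cancel_epi _).1 this)
    congr 1
    exact fiber_ext K fb (a := Y.fiber) (b := X.fiber) (φ := fib hK ⟨fb, ff⟩) (ψ := fib hK ⟨fb, gf⟩) e

lemma splitPsi_exists {x y : 𝒳} (φ : x ⟶ y) :
    ∃ f : (⟨p.obj x, ⟨x, rfl⟩⟩ : SplitCat hK) ⟶ ⟨p.obj y, ⟨y, rfl⟩⟩,
      (splitPsi hK).map f = φ ∧ f.base = p.map φ :=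
  ⟨⟨p.map φ, Fiber.homMk p (p.obj x) (IsCartesian.map p (p.map φ) (K.lift rfl (p.map φ)) φ)⟩,
    (by exact IsCartesian.fac p (p.map φ) (K.lift (a := y) rfl (p.map φ)) φ), rfl⟩

/-- The comparison from a split category to the category of pairs. -/
def splitPhi : 𝒳 ⥤ SplitCat hK where
  obj x := ⟨p.obj x, ⟨x, rfl⟩⟩
  map φ := (splitPsi_exists hK φ).choose
  map_id x := (splitPsi_faithful hK).map_injective (by
    rw [(splitPsi_exists hK (𝟙 x)).choose_spec.1, CategoryTheory.Functor.map_id]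
    rfl)
  map_comp φ ψ := (splitPsi_faithful hK).map_injective (by
    rw [(splitPsi_exists hK (φ ≫ ψ)).choose_spec.1, Functor.map_comp,
      (splitPsi_exists hK φ).choose_spec.1, (splitPsi_exists hK ψ).choose_spec.1])

lemma exists_iso_split : ∃ (F : 𝒮ᵒᵖ ⥤ Cat.{v₂, u₂})
    (Φ : 𝒳 ⥤ CoGrothendieck F.toPseudofunctor') (Ψ : CoGrothendieck F.toPseudofunctor' ⥤ 𝒳),
    Φ ⋙ Ψ = 𝟭 𝒳 ∧ Ψ ⋙ Φ = 𝟭 _ ∧ Φ ⋙ CoGrothendieck.forget F.toPseudofunctor' = p := by
  refine ⟨splitFunctor hK, splitPhi hK, splitPsi hK, ?_, ?_, ?_⟩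
  · refine Functor.ext (fun x => rfl) fun x y φ => ?_
    simp only [eqToHom_refl, Category.comp_id, Category.id_comp]
    exact (splitPsi_exists hK φ).choose_spec.1
  · have hobj : ∀ X : SplitCat hK, (splitPsi hK ⋙ splitPhi hK).obj X = X := by
      rintro ⟨U, a, ha⟩
      change p.obj a = U at ha
      subst ha
      rfl
    refine Functor.ext hobj fun X Y f => (splitPsi_faithful hK).map_injective ?_
    simp only [Functor.comp_map, Functor.id_map, Functor.map_comp, eqToHom_map]
    erw [(splitPsi_exists hK ((splitPsi hK).map f)).choose_spec.1]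
    simp
  · refine Functor.ext (fun x => rfl) fun x y φ => ?_
    simpa [splitPhi] using (splitPsi_exists hK φ).choose_spec.2

end

end Groth.Agent.H14Fib
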