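import Groth.Agent.H14Fib.Split

/-!
# Every fibred category is equivalent to a split one
-/

set_option autoImplicit false
set_option backward.isDefEq.respectTransparency false
set_option backward.isDefEq.respectTransparency.types false
set_option backward.defeqAttrib.useBackward true

universe v u v₂ u₂ v₁ u₁

open CategoryTheory CategoryTheory.Functor Opposite Pseudofunctor

noncomputable section

namespace Groth.Agent.H14Fib

section FullSub

variable {C : Type u} [Category.{v} C] {𝒳 : BasedCategory.{v, max u v} C}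

/-- Representatives of the isomorphism classes over identities. -/
def fibSetoidRel (a b : 𝒳.obj) : Prop :=
  ∃ e : a ≅ b, 𝒳.p.IsHomLift (𝟙 (𝒳.p.obj b)) e.hom

lemma fibSetoidRel_equiv : Equivalence (fibSetoidRel (𝒳 := 𝒳)) where
  refl a := ⟨Iso.refl a, IsHomLift.id rfl⟩
  symm {a b} := fun ⟨e, he⟩ => ⟨e.symm, by
    rw [IsHomLift.domain_eq 𝒳.p (𝟙 (𝒳.p.obj b)) e.hom]
    exact IsHomLift.lift_id_inv 𝒳.p (𝒳.p.obj b) e⟩
  trans {a b c} := fun ⟨e, he⟩ ⟨e', he'⟩ => ⟨e ≪≫ e', by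
    have hb : 𝒳.p.obj b = 𝒳.p.obj c := IsHomLift.domain_eq 𝒳.p (𝟙 (𝒳.p.obj c)) e'.hom
    rw [hb] at he
    exact homLift_id_comp he he'⟩

def fibRep (a : 𝒳.obj) : 𝒳.obj := (Quotient.mk ⟨_, fibSetoidRel_equiv⟩ a).out

lemma fibRep_rel (a : 𝒳.obj) : fibSetoidRel (fibRep a) a :=
  Quotient.mk_out (s := ⟨_, fibSetoidRel_equiv⟩) a

lemma fibRep_eq {a b : 𝒳.obj} (h : fibSetoidRel a b) : fibRep a = fibRep b := by
  rw [fibRep, fibRep, Quotient.sound (s := ⟨_, fibSetoidRel_equiv⟩) h]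

lemma exists_fibSet (h : FibCat.IsFibSetoid 𝒳.p) :
    ∃ (𝒴 : BasedCategory.{v, max u v} C) (F : 𝒳 ⥤ᵇ 𝒴),
      FibCat.IsFibSet 𝒴.p ∧ FibCat.IsEquivOver F := by
  let P : ObjectProperty 𝒳.obj := fun a => fibRep a = a
  let 𝒴 : BasedCategory.{v, max u v} C := BasedCategory.ofFunctor (P.ι ⋙ 𝒳.p)
  let G : 𝒴 ⥤ᵇ 𝒳 := ⟨P.ι, rfl⟩
  have hG : FibCat.IsEquivOver G := (isEquivOver_iff G).2 ⟨⟨inferInstanceAs P.ι.Full,
    inferInstanceAs P.ι.Faithful⟩, fun η => by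
      obtain ⟨e, he⟩ := fibRep_rel η
      exact ⟨⟨fibRep η, fibRep_eq ⟨e, he⟩⟩, e, he⟩⟩
  obtain ⟨F, hF⟩ := IsEquivOver.symm' hG
  have hg : FibCat.IsFibGrpd 𝒴.p := fibGrpd_source_of_isEquivOver hG h.1
  have := faithful_of_fibSetoid h
  have : 𝒴.p.Faithful := inferInstanceAs (P.ι ⋙ 𝒳.p).Faithful
  refine ⟨𝒴, F, ⟨hg, fun U => ?_⟩, hF⟩
  have := thin_of_faithful (p := 𝒴.p) U
  refine { subsingleton := fun a b => this a b, eq_of_hom := fun {a b} φ => ?_ }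
  obtain ⟨⟨a, ha⟩, haU⟩ := a
  obtain ⟨⟨b, hb⟩, hbU⟩ := b
  have := fiber_isGroupoid hg U
  let e := Fiber.fiberInclusion.mapIso (asIso φ)
  have he : 𝒴.p.IsHomLift (𝟙 U) e.hom := φ.2
  have : fibSetoidRel a b := ⟨P.ι.mapIso e, by
    change 𝒳.p.obj b = U at hbU
    rw [hbU]
    exact (BasedFunctor.isHomLift_iff G _ _).2 he⟩
  apply Subtype.ext
  apply ObjectProperty.FullSubcategory.ext
  exact ha.symm.trans ((fibRep_eq this).trans hb)

end FullSub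

section Replace

variable {C : Type u} [Category.{v} C] (𝒳 : BasedCategory.{v, max u v} C) [𝒳.p.IsFibered]

/-- A formal inverse image. -/
structure Pair : Type (max u v) where
  U : C
  V : C
  f : U ⟶ V
  a : 𝒳.obj
  ha : 𝒳.p.obj a = V

variable {𝒳}

abbrev Pair.pb (A : Pair 𝒳) : 𝒳.obj := IsPreFibered.pullbackObj A.ha A.f

lemma Pair.proj (A : Pair 𝒳) : 𝒳.p.obj A.pb = A.U :=
  IsPreFibered.pullbackObj_proj A.ha A.f

variable (𝒳)

abbrev SplitObj := InducedCategory 𝒳.obj (Pair.pb (𝒳 := 𝒳))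

/-- The structure functor of the split replacement. -/
def splitProj : SplitObj 𝒳 ⥤ C where
  obj A := (A : Pair 𝒳).U
  map {A B} φ := eqToHom (Pair.proj A).symm ≫ 𝒳.p.map φ.hom ≫ eqToHom (Pair.proj B)
  map_id A := by simp
  map_comp φ ψ := by simp

abbrev splitRepl : BasedCategory.{v, max u v} C := BasedCategory.ofFunctor (splitProj 𝒳)

/-- The split replacement as a category over the base, mapped to the original. -/
def splitIncl : splitRepl 𝒳 ⥤ᵇ 𝒳 where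
  toFunctor := inducedFunctor _
  w := Functor.ext (fun A => Pair.proj A) fun A B φ => by
    simp [splitProj, BasedCategory.ofFunctor]

lemma splitIncl_isEquivOver : FibCat.IsEquivOver (splitIncl 𝒳) := by
  refine (isEquivOver_iff _).2 ⟨⟨inferInstanceAs (inducedFunctor _).Full,
    inferInstanceAs (inducedFunctor _).Faithful⟩, fun η => ?_⟩
  let A : SplitObj 𝒳 := (⟨_, _, 𝟙 (𝒳.p.obj η), η, rfl⟩ : Pair 𝒳)
  let π := IsPreFibered.pullbackMap (p := 𝒳.p) (a := η) rfl (𝟙 (𝒳.p.obj η))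
  have : 𝒳.p.IsCartesian (𝟙 (𝒳.p.obj η)) (𝟙 η) := inferInstance
  have hh := IsCartesian.domainUniqueUpToIso_inv_isHomLift 𝒳.p (𝟙 (𝒳.p.obj η)) (𝟙 η) π
  exact ⟨A, IsCartesian.domainUniqueUpToIso 𝒳.p (𝟙 (𝒳.p.obj η)) (𝟙 η) π, hh⟩

instance : (splitProj 𝒳).IsFibered :=
  have := isFibered_source_of_isEquivOver (splitIncl_isEquivOver 𝒳) ‹_›
  this

variable {𝒳}

lemma splitHomLift_iff {A B : SplitObj 𝒳} {R S : C} (g : R ⟶ S) (φ : A ⟶ B) :
    (splitProj 𝒳).IsHomLift g φ ↔ 𝒳.p.IsHomLift g φ.hom :=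
  (BasedFunctor.isHomLift_iff (splitIncl 𝒳) g φ).symm

def splitObjOf {R S : C} {A : SplitObj 𝒳} (hA : (splitProj 𝒳).obj A = S) (h : R ⟶ S) : SplitObj 𝒳 :=
  (⟨R, (A : Pair 𝒳).V, (h ≫ eqToHom hA.symm) ≫ (A : Pair 𝒳).f, (A : Pair 𝒳).a, (A : Pair 𝒳).ha⟩ :
    Pair 𝒳)

lemma sc_pullbackMap (A : Pair 𝒳) :
    𝒳.p.IsStronglyCartesian A.f (IsPreFibered.pullbackMap A.ha A.f) :=
  inferInstance

def splitLiftOf {R S : C} {A : SplitObj 𝒳} (hA : (splitProj 𝒳).obj A = S) (h : R ⟶ S) :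
    splitObjOf hA h ⟶ A :=
  InducedCategory.homMk (IsStronglyCartesian.map 𝒳.p (A : Pair 𝒳).f (IsPreFibered.pullbackMap (A : Pair 𝒳).ha (A : Pair 𝒳).f)
      (g := h ≫ eqToHom hA.symm) (f' := (h ≫ eqToHom hA.symm) ≫ (A : Pair 𝒳).f)
      rfl
      (IsPreFibered.pullbackMap (A : Pair 𝒳).ha ((h ≫ eqToHom hA.symm) ≫ (A : Pair 𝒳).f)))

lemma splitLiftOf_fac {R S : C} {A : SplitObj 𝒳} (hA : (splitProj 𝒳).obj A = S) (h : R ⟶ S) :
    (splitLiftOf hA h).hom ≫ IsPreFibered.pullbackMap (A : Pair 𝒳).ha (A : Pair 𝒳).f =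
      IsPreFibered.pullbackMap (A : Pair 𝒳).ha ((h ≫ eqToHom hA.symm) ≫ (A : Pair 𝒳).f) :=
  have := sc_pullbackMap (A : Pair 𝒳)
  IsStronglyCartesian.fac 𝒳.p (A : Pair 𝒳).f (IsPreFibered.pullbackMap (A : Pair 𝒳).ha (A : Pair 𝒳).f)
    (g := h ≫ eqToHom hA.symm) (f' := (h ≫ eqToHom hA.symm) ≫ (A : Pair 𝒳).f) rfl
    (IsPreFibered.pullbackMap (A : Pair 𝒳).ha ((h ≫ eqToHom hA.symm) ≫ (A : Pair 𝒳).f))

instance splitLiftOf_homLift {R S : C} {A : SplitObj 𝒳} (hA : (splitProj 𝒳).obj A = S) (h : R ⟶ S) :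
    𝒳.p.IsHomLift h (splitLiftOf hA h).hom := by
  have := sc_pullbackMap (A : Pair 𝒳)
  have hh : 𝒳.p.IsHomLift (h ≫ eqToHom hA.symm) (splitLiftOf hA h).hom := by
    unfold splitLiftOf
    exact IsStronglyCartesian.map_isHomLift 𝒳.p (A : Pair 𝒳).f
      (IsPreFibered.pullbackMap (A : Pair 𝒳).ha (A : Pair 𝒳).f)
      (g := h ≫ eqToHom hA.symm) (f' := (h ≫ eqToHom hA.symm) ≫ (A : Pair 𝒳).f) rfl
      (IsPreFibered.pullbackMap (A : Pair 𝒳).ha ((h ≫ eqToHom hA.symm) ≫ (A : Pair 𝒳).f))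
  subst hA
  simpa using hh

lemma splitLiftOf_sc {R S : C} {A : SplitObj 𝒳} (hA : (splitProj 𝒳).obj A = S) (h : R ⟶ S) :
    𝒳.p.IsStronglyCartesian h (splitLiftOf hA h).hom := by
  subst hA
  have : 𝒳.p.IsStronglyCartesian (h ≫ (A : Pair 𝒳).f)
      ((splitLiftOf (A := A) rfl h).hom ≫ IsPreFibered.pullbackMap (A : Pair 𝒳).ha (A : Pair 𝒳).f) := by
    have e := splitLiftOf_fac (A := A) rfl h
    rw [e]
    have hh : (h ≫ eqToHom rfl) ≫ (A : Pair 𝒳).f = h ≫ (A : Pair 𝒳).f :=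
      congrArg (· ≫ _) (Category.comp_id h)
    exact sc_congr hh _
  have := sc_pullbackMap (A : Pair 𝒳)
  exact IsStronglyCartesian.of_comp (p := 𝒳.p) (f := h) (g := (A : Pair 𝒳).f)
    (ψ := IsPreFibered.pullbackMap (A : Pair 𝒳).ha (A : Pair 𝒳).f) (φ := (splitLiftOf (A := A) rfl h).hom)

variable (𝒳)

def splitCleavage : FibCat.Cleavage (splitProj 𝒳) where
  obj hA h := splitObjOf hA h
  lift hA h := splitLiftOf hA h
  isCartesian {R S A} hA h := by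
    have := splitLiftOf_sc hA h
    have : (splitProj 𝒳).IsHomLift h (splitLiftOf hA h) :=
      (splitHomLift_iff _ _).2 inferInstance
    refine { universal_property := fun {B} φ' hφ' => ?_ }
    have := (splitHomLift_iff _ _).1 hφ'
    refine ⟨InducedCategory.homMk (IsCartesian.map 𝒳.p h (splitLiftOf hA h).hom φ'.hom),
      ⟨(splitHomLift_iff _ _).2
          (inferInstanceAs (𝒳.p.IsHomLift _ (IsCartesian.map 𝒳.p h (splitLiftOf hA h).hom φ'.hom))),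
        InducedCategory.hom_ext (IsCartesian.fac 𝒳.p h _ _)⟩, fun χ hχ => InducedCategory.hom_ext ?_⟩
    have := (splitHomLift_iff _ _).1 hχ.1
    exact IsCartesian.map_uniq 𝒳.p h _ _ _ (congrArg InducedCategory.Hom.hom hχ.2)

lemma pullbackMap_congr {a : 𝒳.obj} {V U : C} (ha : 𝒳.p.obj a = V) {f f' : U ⟶ V} (hf : f = f') :
    ∃ e : IsPreFibered.pullbackObj ha f = IsPreFibered.pullbackObj ha f',
      IsPreFibered.pullbackMap ha f = eqToHom e ≫ IsPreFibered.pullbackMap ha f' := by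
  subst hf
  exact ⟨rfl, by simp⟩

lemma inducedHom_eqToHom {A B : SplitObj 𝒳} (h : A = B) :
    (eqToHom h).hom = eqToHom (congrArg Pair.pb h) := by
  subst h
  rfl

lemma splitCleavage_isSplitting : (splitCleavage 𝒳).IsSplitting := by
  refine ⟨fun S A hA => ?_, fun S T U f g A hA => ?_⟩
  · obtain ⟨U, V, f₀, a, ha⟩ := A
    change U = S at hA
    subst hA
    have h : (splitCleavage 𝒳).obj (a := (⟨U, V, f₀, a, ha⟩ : Pair 𝒳)) rfl (𝟙 U) =
        (⟨U, V, f₀, a, ha⟩ : Pair 𝒳) := by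
      simp [splitCleavage, splitObjOf]
    refine ⟨h, InducedCategory.hom_ext ?_⟩
    obtain ⟨e, he⟩ := pullbackMap_congr 𝒳 ha
      (show (𝟙 U ≫ eqToHom rfl) ≫ f₀ = f₀ by simp)
    have := sc_pullbackMap (⟨U, V, f₀, a, ha⟩ : Pair 𝒳)
    rw [inducedHom_eqToHom]
    have hl' : 𝒳.p.IsHomLift (𝟙 U) ((splitCleavage 𝒳).lift
      (a := (⟨U, V, f₀, a, ha⟩ : Pair 𝒳)) rfl (𝟙 U)).hom := splitLiftOf_homLift _ _
    have hl : 𝒳.p.IsHomLift (𝟙 U) (eqToHom (congrArg Pair.pb h)) :=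
      IsHomLift.eqToHom_domain_lift_id _ (IsPreFibered.pullbackObj_proj _ _)
    exact IsStronglyCartesian.ext 𝒳.p f₀ (IsPreFibered.pullbackMap ha f₀) (𝟙 U)
      ((splitLiftOf_fac (A := (⟨U, V, f₀, a, ha⟩ : Pair 𝒳)) rfl (𝟙 U)).trans he)
  · obtain ⟨W, V, f₀, a, ha⟩ := A
    change W = S at hA
    subst hA
    have h : (splitCleavage 𝒳).obj ((splitCleavage 𝒳).obj_proj (a := (⟨W, V, f₀, a, ha⟩ : Pair 𝒳)) rfl f) g =
        (splitCleavage 𝒳).obj (a := (⟨W, V, f₀, a, ha⟩ : Pair 𝒳)) rfl (g ≫ f) := by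
      simp [splitCleavage, splitObjOf]
    refine ⟨h, InducedCategory.hom_ext ?_⟩
    obtain ⟨e, he⟩ := pullbackMap_congr 𝒳 ha
      (show (g ≫ eqToHom rfl) ≫ ((f ≫ eqToHom rfl) ≫ f₀) = ((g ≫ f) ≫ eqToHom rfl) ≫ f₀ by simp)
    have := sc_pullbackMap (⟨W, V, f₀, a, ha⟩ : Pair 𝒳)
    rw [InducedCategory.comp_hom, InducedCategory.comp_hom, inducedHom_eqToHom]
    have hl : 𝒳.p.IsHomLift (𝟙 U) (eqToHom (congrArg Pair.pb h)) :=
      IsHomLift.eqToHom_domain_lift_id _ (IsPreFibered.pullbackObj_proj _ _)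
    have hl1 : 𝒳.p.IsHomLift g ((splitCleavage 𝒳).lift
      ((splitCleavage 𝒳).obj_proj (a := (⟨W, V, f₀, a, ha⟩ : Pair 𝒳)) rfl f) g).hom :=
      splitLiftOf_homLift _ _
    have hl2 : 𝒳.p.IsHomLift f ((splitCleavage 𝒳).lift
      (a := (⟨W, V, f₀, a, ha⟩ : Pair 𝒳)) rfl f).hom := splitLiftOf_homLift _ _
    have hl3 : 𝒳.p.IsHomLift (g ≫ f) ((splitCleavage 𝒳).lift
      (a := (⟨W, V, f₀, a, ha⟩ : Pair 𝒳)) rfl (g ≫ f)).hom := splitLiftOf_homLift _ _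
    refine IsStronglyCartesian.ext 𝒳.p f₀ (IsPreFibered.pullbackMap ha f₀) (g ≫ f) ?_
    rw [Category.assoc, Category.assoc]
    erw [splitLiftOf_fac, splitLiftOf_fac]
    rw [show eqToHom (congrArg Pair.pb h) = eqToHom e from rfl]
    refine Eq.trans ?_ (congrArg (eqToHom e ≫ ·)
      (splitLiftOf_fac (A := (⟨W, V, f₀, a, ha⟩ : Pair 𝒳)) rfl (g ≫ f)).symm)
    refine Eq.trans ?_ he
    first
    | rfl
    | exact splitLiftOf_fac (A := splitObjOf (A := (⟨W, V, f₀, a, ha⟩ : Pair 𝒳)) rfl f) _ g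

/-- Straightening of a fibred category. -/
lemma exists_split_functor :
    ∃ (F : Cᵒᵖ ⥤ Cat.{v, max u v})
      (E : 𝒳 ⥤ᵇ BasedCategory.ofFunctor (CoGrothendieck.forget F.toPseudofunctor')),
      FibCat.IsEquivOver E ∧
        (FibCat.IsFibGrpd 𝒳.p → ∀ U : Cᵒᵖ, IsGroupoid (F.obj U)) := by
  have hK := splitCleavage_isSplitting 𝒳
  obtain ⟨G, hG⟩ := IsEquivOver.symm' (splitIncl_isEquivOver 𝒳)
  have w : splitPhi hK ⋙ CoGrothendieck.forget (splitFunctor hK).toPseudofunctor' =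
      splitProj 𝒳 := by
    refine Functor.ext (fun x => rfl) fun x y φ => ?_
    simpa [splitPhi] using (splitPsi_exists hK φ).choose_spec.2
  let Φ : splitRepl 𝒳 ⥤ᵇ
      BasedCategory.ofFunctor (CoGrothendieck.forget (splitFunctor hK).toPseudofunctor') :=
    ⟨splitPhi hK, w⟩
  have hΦ : FibCat.IsEquivOver Φ := by
    have h₁ : splitPhi hK ⋙ splitPsi hK = 𝟭 _ :=
      Functor.ext (fun x => rfl) fun x y φ => by
        simp only [eqToHom_refl, Category.comp_id, Category.id_comp]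
        exact (splitPsi_exists hK φ).choose_spec.1
    have := splitPsi_faithful hK
    have : (splitPhi hK).Faithful := Functor.Faithful.of_comp_eq h₁
    have : (splitPhi hK).Full := ⟨fun {x y} ψ => ⟨(splitPsi hK).map ψ, (splitPsi hK).map_injective
      ((splitPsi_exists hK ((splitPsi hK).map ψ)).choose_spec.1)⟩⟩
    refine (isEquivOver_iff Φ).2 ⟨⟨inferInstanceAs (splitPhi hK).Full,
      inferInstanceAs (splitPhi hK).Faithful⟩, ?_⟩
    rintro ⟨U, a, ha⟩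
    change (splitProj 𝒳).obj a = U at ha
    subst ha
    exact ⟨a, Iso.refl _, IsHomLift.id rfl⟩
  refine ⟨splitFunctor hK, BasedFunctor.comp G Φ, isEquivOver_comp hG hΦ, fun hg U => ?_⟩
  exact fiber_isGroupoid (fibGrpd_source_of_isEquivOver (splitIncl_isEquivOver 𝒳) hg) U.unop

end Replace

section OfIso

variable {𝒮 : Type u₁} [Category.{v₁} 𝒮]

lemma hom_eqToHom_base {G : Pseudofunctor (LocallyDiscrete 𝒮ᵒᵖ) Cat.{v₂, u₂}}
    {A B : CoGrothendieck G} (h : A = B) : (eqToHom h).base = eqToHom (congrArg (·.base) h) := by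
  subst h
  rfl

lemma hom_eqToHom_fiber {F : 𝒮ᵒᵖ ⥤ Cat.{v₂, u₂}}
    {A B : CoGrothendieck F.toPseudofunctor'} (h : A = B) :
    ∃ e, (eqToHom h).fiber = eqToHom e := by
  subst h
  have e : A.fiber = (F.toPseudofunctor'.map (𝟙 A.base).op.toLoc).toFunctor.obj A.fiber := by
    change A.fiber = (F.map (𝟙 (op A.base))).toFunctor.obj A.fiber
    rw [F.map_id]
    rfl
  refine ⟨e, ?_⟩
  change ((F.toPseudofunctor').mapId ⟨op A.base⟩).inv.toNatTrans.app A.fiber = _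
  simp [Functor.toPseudofunctor', catEqToHom_app]

lemma toPseudofunctor'_isSplitting (F : 𝒮ᵒᵖ ⥤ Cat.{v₂, u₂}) :
    (FibCat.Cleavage.ofCoGrothendieck F.toPseudofunctor').IsSplitting := by
  have hid : ∀ (U : 𝒮) (x : F.obj (op U)), (F.map (𝟙 U).op).toFunctor.obj x = x := fun U x => by
    rw [show (𝟙 U).op = 𝟙 (op U) from rfl, F.map_id]
    rfl
  have hcomp : ∀ {R T S : 𝒮} (f : T ⟶ S) (g : R ⟶ T) (x : F.obj (op S)),
      (F.map (g ≫ f).op).toFunctor.obj x =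
        (F.map g.op).toFunctor.obj ((F.map f.op).toFunctor.obj x) := fun f g x => by
    rw [op_comp, F.map_comp]
    rfl
  refine ⟨fun S A hA => ?_, fun S T U f g A hA => ?_⟩
  · obtain ⟨B, x⟩ := A
    change B = S at hA
    subst hA
    have h : (FibCat.Cleavage.ofCoGrothendieck F.toPseudofunctor').obj
        (a := (⟨B, x⟩ : CoGrothendieck F.toPseudofunctor')) rfl (𝟙 B) = ⟨B, x⟩ := by
      refine congrArg (CoGrothendieck.mk B) ?_
      simp only [eqToHom_refl, Category.comp_id]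
      exact hid B x
    refine ⟨h, ?_⟩
    refine CoGrothendieck.Hom.ext _ _ ?_ ?_
    · simp [hom_eqToHom_base, FibCat.Cleavage.ofCoGrothendieck]
    · obtain ⟨e, he⟩ := hom_eqToHom_fiber h
      rw [he]
      simp [FibCat.Cleavage.ofCoGrothendieck, Functor.toPseudofunctor', catEqToHom_app]
  · obtain ⟨B, x⟩ := A
    change B = S at hA
    subst hA
    have h : (FibCat.Cleavage.ofCoGrothendieck F.toPseudofunctor').obj
        ((FibCat.Cleavage.ofCoGrothendieck F.toPseudofunctor').obj_proj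
          (a := (⟨B, x⟩ : CoGrothendieck F.toPseudofunctor')) rfl f) g =
        (FibCat.Cleavage.ofCoGrothendieck F.toPseudofunctor').obj
          (a := (⟨B, x⟩ : CoGrothendieck F.toPseudofunctor')) rfl (g ≫ f) := by
      refine congrArg (CoGrothendieck.mk U) ?_
      change (F.map (g ≫ eqToHom _).op).toFunctor.obj ((F.map (f ≫ eqToHom _).op).toFunctor.obj x) =
        (F.map ((g ≫ f) ≫ eqToHom _).op).toFunctor.obj x
      simp only [eqToHom_refl, Category.comp_id]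
      exact (hcomp f g x).symm
    refine ⟨h, ?_⟩
    refine CoGrothendieck.Hom.ext _ _ ?_ ?_
    · simp [hom_eqToHom_base, FibCat.Cleavage.ofCoGrothendieck]
    · obtain ⟨e, he⟩ := hom_eqToHom_fiber h
      simp [he, hom_eqToHom_base, FibCat.Cleavage.ofCoGrothendieck,
        Functor.toPseudofunctor', catEqToHom_app]

lemma exists_isSplitting_of_iso {𝒳 : Type u₂} [Category.{v₂} 𝒳] (p : 𝒳 ⥤ 𝒮)
    (F : 𝒮ᵒᵖ ⥤ Cat.{v₂, u₂}) (Φ : 𝒳 ⥤ CoGrothendieck F.toPseudofunctor')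
    (Ψ : CoGrothendieck F.toPseudofunctor' ⥤ 𝒳) (h₁ : Φ ⋙ Ψ = 𝟭 𝒳) (h₂ : Ψ ⋙ Φ = 𝟭 _)
    (h₃ : Φ ⋙ CoGrothendieck.forget F.toPseudofunctor' = p) :
    ∃ K : FibCat.Cleavage p, K.IsSplitting := by
  subst h₃
  let q := CoGrothendieck.forget F.toPseudofunctor'
  let L := FibCat.Cleavage.ofCoGrothendieck F.toPseudofunctor'
  let e : 𝒳 ≌ CoGrothendieck F.toPseudofunctor' :=
    CategoryTheory.Equivalence.mk Φ Ψ (eqToIso h₁.symm) (eqToIso h₂)
  have : Φ.IsEquivalence := e.isEquivalence_functor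
  have hΨ (b) : Φ.obj (Ψ.obj b) = b := Functor.congr_obj h₂ b
  have hΦ (a) : Ψ.obj (Φ.obj a) = a := Functor.congr_obj h₁ a
  let obj {R S : 𝒮} {a : 𝒳} (ha : (Φ ⋙ q).obj a = S) (f : R ⟶ S) : 𝒳 :=
    Ψ.obj (L.obj (a := Φ.obj a) ha f)
  let lift {R S : 𝒮} {a : 𝒳} (ha : (Φ ⋙ q).obj a = S) (f : R ⟶ S) : obj ha f ⟶ a :=
    Φ.preimage (eqToHom (hΨ _) ≫ L.lift (a := Φ.obj a) ha f)
  have map_lift {R S : 𝒮} {a : 𝒳} (ha : (Φ ⋙ q).obj a = S) (f : R ⟶ S) :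
      Φ.map (lift ha f) = eqToHom (hΨ _) ≫ L.lift (a := Φ.obj a) ha f := Φ.map_preimage _
  have hl {R S : 𝒮} {x y : 𝒳} (f : R ⟶ S) (φ : x ⟶ y) :
      (Φ ⋙ q).IsHomLift f φ ↔ q.IsHomLift f (Φ.map φ) :=
    (BasedFunctor.isHomLift_iff (𝒳 := BasedCategory.ofFunctor (Φ ⋙ q))
      (𝒴 := BasedCategory.ofFunctor q) ⟨Φ, rfl⟩ f φ).symm
  have hlift {R S : 𝒮} {a : 𝒳} (ha : (Φ ⋙ q).obj a = S) (f : R ⟶ S) :
      (Φ ⋙ q).IsHomLift f (lift ha f) := by
    rw [hl, map_lift]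
    infer_instance
  have hcart {R S : 𝒮} {a : 𝒳} (ha : (Φ ⋙ q).obj a = S) (f : R ⟶ S) :
      (Φ ⋙ q).IsCartesian f (lift ha f) := by
    have := hlift ha f
    have hc : q.IsCartesian f (Φ.map (lift ha f)) := by
      rw [map_lift]
      have : q.IsHomLift (𝟙 R) (eqToIso (hΨ (L.obj (a := Φ.obj a) ha f))).hom :=
        IsHomLift.eqToHom_codomain_lift_id (hΨ (L.obj (a := Φ.obj a) ha f)) (L.obj_proj (a := Φ.obj a) ha f)
      exact IsCartesian.of_iso_comp q f (L.lift (a := Φ.obj a) ha f) (eqToIso (hΨ _))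
    refine { universal_property := fun {b} φ' hφ' => ?_ }
    have := (hl _ _).1 hφ'
    refine ⟨Φ.preimage (IsCartesian.map q f (Φ.map (lift ha f)) (Φ.map φ')), ⟨?_, ?_⟩, ?_⟩
    · rw [hl, Φ.map_preimage]; infer_instance
    · apply Φ.map_injective
      rw [Φ.map_comp, Φ.map_preimage, IsCartesian.fac]
    · intro χ hχ
      apply Φ.map_injective
      rw [Φ.map_preimage]
      have := (hl _ _).1 hχ.1
      exact IsCartesian.map_uniq q f _ _ _ (by rw [← Φ.map_comp, hχ.2])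
  obtain ⟨hn, hs⟩ := toPseudofunctor'_isSplitting F
  refine ⟨⟨obj, lift, hcart⟩, fun S a ha => ?_, fun S T U f g a ha => ?_⟩
  · obtain ⟨h, h'⟩ := hn (a := Φ.obj a) ha
    refine ⟨(congrArg Ψ.obj h).trans (hΦ a), Φ.map_injective ?_⟩
    rw [map_lift, h', eqToHom_map, eqToHom_trans]
  · obtain ⟨h, h'⟩ := hs f g (a := Φ.obj a) ha
    obtain ⟨e, he⟩ := obj_congr L (hΨ (L.obj (a := Φ.obj a) ha f))
      (S := T) ((congrArg q.obj (hΨ _)).trans (L.obj_proj (a := Φ.obj a) ha f)) (f := g) rfl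
    refine ⟨congrArg Ψ.obj (e.trans h), Φ.map_injective ?_⟩
    rw [Φ.map_comp, Φ.map_comp, map_lift, map_lift, map_lift, eqToHom_map, Category.assoc]
    erw [reassoc_of% he, h']
    simp
    rfl

end OfIso

end Groth.Agent.H14Fib
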